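import Mathlib

/-!
Lifts through a central extension of elements of order prime to the kernel.
-/

set_option autoImplicit false
set_option linter.unusedSectionVars false

namespace Cfsg.Agent.SimpleFacts.SpMult.Lifts

universe u v

variable {E : Type u} [Group E] [Finite E] {G : Type v} [Group G] {σ : E →* G}

theorem mul_ker {y y' : E} (h : σ y = σ y') : ∃ k ∈ σ.ker, y = y' * k :=
  ⟨y'⁻¹ * y, by rw [MonoidHom.mem_ker, map_mul, map_inv, h, inv_mul_cancel], by group⟩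

/-- Uniqueness of lifts of order prime to the kernel. -/
theorem lift_unique (hcen : σ.ker ≤ Subgroup.center E) {n : ℕ} (hn : n.Coprime (Nat.card σ.ker)) {y y' : E}
    (h : σ y = σ y') (hy : y ^ n = 1) (hy' : y' ^ n = 1) : y = y' := by
  obtain ⟨k, hk, rfl⟩ := mul_ker h
  have hc : Commute y' k := Subgroup.mem_center_iff.1 (hcen hk) y'
  rw [hc.mul_pow, hy', one_mul] at hy
  have h1 : orderOf (⟨k, hk⟩ : σ.ker) ∣ Nat.gcd n (Nat.card σ.ker) :=
    Nat.dvd_gcd (orderOf_dvd_of_pow_eq_one (Subtype.ext hy)) (orderOf_dvd_natCard _)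
  rw [Nat.coprime_iff_gcd_eq_one.1 hn, Nat.dvd_one, orderOf_eq_one_iff] at h1
  rw [show k = 1 from congrArg Subtype.val h1, mul_one]

/-- Existence of lifts of order prime to the kernel. -/
theorem lift_exists (hsurj : Function.Surjective σ) (hcen : σ.ker ≤ Subgroup.center E) {n : ℕ}
    (hn : n.Coprime (Nat.card σ.ker)) {x : G} (hx : x ^ n = 1) : ∃ y, σ y = x ∧ y ^ n = 1 := by
  obtain ⟨y₀, rfl⟩ := hsurj x
  obtain ⟨k, hk⟩ := (powCoprime (G := σ.ker) hn.symm).surjective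
    ⟨y₀ ^ n, by rw [MonoidHom.mem_ker, map_pow, hx]⟩
  have hk' : (k : E) ^ n = y₀ ^ n := congrArg Subtype.val hk
  refine ⟨y₀ * (k : E)⁻¹, by rw [map_mul, map_inv, MonoidHom.mem_ker.1 k.2, inv_one, mul_one], ?_⟩
  have hc : Commute y₀ (k : E)⁻¹ := Subgroup.mem_center_iff.1 (inv_mem (hcen k.2)) y₀
  rw [hc.mul_pow, inv_pow, hk', mul_inv_cancel]

/-- Elements of the same image of a central extension conjugate alike. -/
theorem conj_congr (hcen : σ.ker ≤ Subgroup.center E) {g g' : E} (h : σ g = σ g') (x : E) :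
    g * x * g⁻¹ = g' * x * g'⁻¹ := by
  obtain ⟨k, hk, rfl⟩ := mul_ker h
  have := Subgroup.mem_center_iff.1 (hcen hk) x
  rw [mul_inv_rev, show g' * k * x * (k⁻¹ * g'⁻¹) = g' * (k * x) * k⁻¹ * g'⁻¹ by group, ← this]
  group

open scoped commutatorElement in
/-- Commutators only depend on the images. -/
theorem bracket_congr (hcen : σ.ker ≤ Subgroup.center E) {g g' h h' : E} (h1 : σ g = σ g') (h2 : σ h = σ h') :
    ⁅g, h⁆ = ⁅g', h'⁆ := by
  have e1 : ∀ x, g * x * g⁻¹ = g' * x * g'⁻¹ := conj_congr hcen h1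
  obtain ⟨l, hl, rfl⟩ := mul_ker h2
  have hl' := Subgroup.mem_center_iff.1 (hcen hl)
  rw [commutatorElement_def, commutatorElement_def, e1 (h' * l), mul_inv_rev]
  calc g' * (h' * l) * g'⁻¹ * (l⁻¹ * h'⁻¹) = g' * h' * (l * g'⁻¹) * l⁻¹ * h'⁻¹ := by group
    _ = g' * h' * (g'⁻¹ * l) * l⁻¹ * h'⁻¹ := by rw [hl' g'⁻¹]
    _ = _ := by group

section plift

variable (σ) (p : ℕ)

/-- The lift of `p`-power order. -/
noncomputable def pl (x : G) : E := by
  classical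
  exact if h : ∃ y, σ y = x ∧ ∃ k : ℕ, y ^ p ^ k = 1 then h.choose else 1

variable {σ} {p} [Fact p.Prime]

theorem coprime_pow (hp : ¬ p ∣ Nat.card σ.ker) (k : ℕ) : (p ^ k).Coprime (Nat.card σ.ker) :=
  Nat.Coprime.pow_left k ((Fact.out : p.Prime).coprime_iff_not_dvd.2 hp)

theorem pl_eq (hcen : σ.ker ≤ Subgroup.center E) (hp : ¬ p ∣ Nat.card σ.ker) {x : G} {y : E} (hy : σ y = x)
    {k : ℕ} (hk : y ^ p ^ k = 1) : pl σ p x = y := by
  classical
  have h : ∃ y, σ y = x ∧ ∃ k : ℕ, y ^ p ^ k = 1 := ⟨y, hy, k, hk⟩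
  rw [pl, dif_pos h]
  obtain ⟨h1, k', h2⟩ := h.choose_spec
  exact lift_unique hcen (coprime_pow hp (k' + k)) (h1.trans hy.symm)
    (by rw [pow_add, pow_mul, h2, one_pow]) (by rw [pow_add, mul_comm (p ^ k'), pow_mul, hk, one_pow])

variable (hsurj : Function.Surjective σ) (hcen : σ.ker ≤ Subgroup.center E) (hp : ¬ p ∣ Nat.card σ.ker)
include hsurj hcen hp

theorem pl_spec {x : G} {k : ℕ} (hx : x ^ p ^ k = 1) : σ (pl σ p x) = x ∧ pl σ p x ^ p ^ k = 1 := by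
  obtain ⟨y, h1, h2⟩ := lift_exists hsurj hcen (coprime_pow hp k) hx
  rw [pl_eq hcen hp h1 h2]
  exact ⟨h1, h2⟩

theorem pl_conj {x : G} {k : ℕ} (hx : x ^ p ^ k = 1) (g : E) :
    g * pl σ p x * g⁻¹ = pl σ p (σ g * x * (σ g)⁻¹) := by
  obtain ⟨h1, h2⟩ := pl_spec hsurj hcen hp hx
  exact (pl_eq hcen hp (by rw [map_mul, map_mul, map_inv, h1]) (by rw [conj_pow, h2, mul_one, mul_inv_cancel])).symm

theorem pl_commute {x x' : G} {k k' : ℕ} (hx : x ^ p ^ k = 1) (hx' : x' ^ p ^ k' = 1) (hc : Commute x x') :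
    Commute (pl σ p x) (pl σ p x') := by
  have := pl_conj hsurj hcen hp hx' (pl σ p x)
  rw [(pl_spec hsurj hcen hp hx).1, hc.eq, mul_inv_cancel_right] at this
  exact mul_inv_eq_iff_eq_mul.1 this

/-- Lifting is multiplicative on a `p`-subgroup. -/
theorem pl_mul {P : Subgroup G} (hP : IsPGroup p P) {a b : G} (ha : a ∈ P) (hb : b ∈ P) :
    pl σ p (a * b) = pl σ p a * pl σ p b := by
  obtain ⟨ka, hka⟩ := hP ⟨a, ha⟩
  obtain ⟨kb, hkb⟩ := hP ⟨b, hb⟩
  obtain ⟨a1, a2⟩ := pl_spec hsurj hcen hp (show a ^ p ^ ka = 1 from congrArg Subtype.val hka)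
  obtain ⟨b1, b2⟩ := pl_spec hsurj hcen hp (show b ^ p ^ kb = 1 from congrArg Subtype.val hkb)
  set Pt := P.comap σ with hPt
  obtain ⟨S⟩ : Nonempty (Sylow p Pt) := inferInstance
  let ρ : Pt →* P := (σ.comp Pt.subtype).codRestrict P fun y => y.2
  have hρ : Function.Surjective ρ := fun ⟨g, hg⟩ => by
    obtain ⟨y, rfl⟩ := hsurj g
    exact ⟨⟨y, hg⟩, rfl⟩
  have htop : (S : Subgroup Pt).map ρ = ⊤ := by
    have : ((S.mapSurjective hρ : Sylow p P) : Subgroup P) = ⊤ := by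
      have hle : (⊤ : Subgroup P) ≤ (S.mapSurjective hρ : Sylow p P) :=
        le_of_eq ((S.mapSurjective hρ).is_maximal' (hP.to_subgroup ⊤) le_top)
      exact top_le_iff.1 hle
    exact this
  have hnorm : (S : Subgroup Pt).Normal := ⟨fun s hs g => by
    obtain ⟨s', hs', e⟩ : ρ g ∈ (S : Subgroup Pt).map ρ := htop ▸ Subgroup.mem_top _
    have e' : σ g.1 = σ s'.1 := (congrArg Subtype.val e).symm
    have : g * s * g⁻¹ = s' * s * s'⁻¹ := Subtype.ext (conj_congr hcen e' s.1)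
    rw [this]
    exact mul_mem (mul_mem hs' hs) (inv_mem hs')⟩
  have hmem : ∀ y : Pt, (∃ k : ℕ, y.1 ^ p ^ k = 1) → y ∈ (S : Subgroup Pt) := by
    rintro y ⟨k, hk⟩
    have hy : IsPGroup p (Subgroup.zpowers y) := IsPGroup.iff_card.2 (by
      rw [Nat.card_zpowers]
      obtain ⟨j, -, hj⟩ := (Nat.dvd_prime_pow Fact.out).1
        (orderOf_dvd_of_pow_eq_one (show y ^ p ^ k = 1 from Subtype.ext hk))
      exact ⟨j, hj⟩)
    have hle := S.is_maximal' (hy.to_sup_of_normal_right S.isPGroup') le_sup_right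
    exact hle.le (le_sup_left (b := (S : Subgroup Pt)) (Subgroup.mem_zpowers y))
  have h1 := mul_mem (hmem ⟨pl σ p a, show σ _ ∈ P by rw [a1]; exact ha⟩ ⟨ka, a2⟩)
    (hmem ⟨pl σ p b, show σ _ ∈ P by rw [b1]; exact hb⟩ ⟨kb, b2⟩)
  obtain ⟨k, hk⟩ := S.isPGroup' ⟨_, h1⟩
  exact pl_eq hcen hp (by rw [map_mul, a1, b1]) (congrArg (fun w : (S : Subgroup Pt) => w.1.1) hk)

end plift

end Cfsg.Agent.SimpleFacts.SpMult.Lifts
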