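import Cfsg.Agent.SimpleFacts.SpMult.Levels
import Cfsg.Agent.SimpleFacts.SpMult.Lifts
import Cfsg.Agent.SimpleFacts.SLnSystem
import Mathlib

/-!
Kernel elements of `p`-power order: descent through the stabiliser of a vector, given an equivariant section of
its radical.
-/

set_option autoImplicit false
set_option linter.unusedSectionVars false
set_option linter.unusedSimpArgs false

namespace Cfsg.Agent.SimpleFacts.SpMult.Radical

open Matrix
open Cfsg.Agent.Forms.SympStd Cfsg.Agent.Classical.Symplectic Cfsg.Agent.SimpleFacts.SpMult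
open Levels Lifts

universe u v

variable {F : Type u} [Field F] {m : ℕ}

local notation "Vec" => (Fin m ⊕ Fin m → F)
local notation "Mat" => Matrix (Fin m ⊕ Fin m) (Fin m ⊕ Fin m) F
local notation "Sp" => symplecticGroup (Fin m) F
local notation "f" => Cfsg.sympForm m F

variable {E : Type v} [Group E] [Finite E] (σ : E →* ↥(symplecticGroup (Fin m) F))

/-- The preimage of a level. -/
def pre (S : Set (Fin m ⊕ Fin m → F)) : Subgroup E := (fixer S).comap σ

theorem ker_le_pre (S : Set (Fin m ⊕ Fin m → F)) : σ.ker ≤ pre σ S := fun x hx => by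
  rw [pre, Subgroup.mem_comap, MonoidHom.mem_ker.1 hx]
  exact one_mem _

/-- An equivariant section of the radical of the stabiliser of `e`. -/
structure Section {S : Set (Fin m ⊕ Fin m → F)} {e h : Fin m ⊕ Fin m → F} (P : Pair S e h) where
  /-- lifts of the short elements -/
  y : (Fin m ⊕ Fin m → F) → E
  /-- lifts of the long elements -/
  ψ : F → E
  y_lift : ∀ w ∈ perp (next S e h), σ (y w) = un e w 0
  ψ_lift : ∀ a, σ (ψ a) = un e 0 a
  ψ_add : ∀ a b, ψ a * ψ b = ψ (a + b)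
  y_mul : ∀ w ∈ perp (next S e h), ∀ w' ∈ perp (next S e h),
    y w * y w' = y (w + w') * ψ (Cfsg.sympForm m F w' w)
  comm : ∀ w ∈ perp (next S e h), ∀ a, Commute (ψ a) (y w)
  y_conj : ∀ g, σ g ∈ fixer (next S e h) → ∀ w ∈ perp (next S e h),
    g * y w * g⁻¹ = y ((σ g : Matrix (Fin m ⊕ Fin m) (Fin m ⊕ Fin m) F) *ᵥ w)
  ψ_conj : ∀ g, σ g ∈ fixer (next S e h) → ∀ a, g * ψ a * g⁻¹ = ψ a

variable {σ} {S : Set (Fin m ⊕ Fin m → F)} {e h : Fin m ⊕ Fin m → F} {P : Pair S e h}

theorem ψ_zero (Q : Section σ P) : Q.ψ 0 = 1 := by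
  have := Q.ψ_add 0 0
  rwa [add_zero, mul_eq_left] at this

theorem y_zero (Q : Section σ P) : Q.y 0 = 1 := by
  have := Q.y_mul 0 (zero_mem _) 0 (zero_mem _)
  rwa [f_zero_left, ψ_zero Q, mul_one, add_zero, mul_eq_left] at this

/-- The lifted radical. -/
def hat (Q : Section σ P) : Subgroup E where
  carrier := {x | ∃ w ∈ perp (next S e h), ∃ a : F, x = Q.y w * Q.ψ a}
  one_mem' := ⟨0, zero_mem _, 0, by rw [y_zero, ψ_zero, mul_one]⟩
  mul_mem' := by
    rintro _ _ ⟨w, hw, a, rfl⟩ ⟨w', hw', a', rfl⟩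
    refine ⟨w + w', add_mem hw hw', f w' w + (a + a'), ?_⟩
    rw [← Q.ψ_add, ← Q.ψ_add, ← mul_assoc (Q.y (w + w')), ← Q.y_mul w hw w' hw', mul_assoc (Q.y w),
      mul_assoc (Q.y w), ← mul_assoc (Q.ψ a), (Q.comm w' hw' a).eq, mul_assoc]
  inv_mem' := by
    rintro _ ⟨w, hw, a, rfl⟩
    refine ⟨-w, neg_mem hw, -a, inv_eq_of_mul_eq_one_right ?_⟩
    rw [mul_assoc (Q.y w), ← mul_assoc (Q.ψ a), (Q.comm _ (neg_mem hw) a).eq, mul_assoc, ← mul_assoc,
      Q.y_mul w hw _ (neg_mem hw), Q.ψ_add, add_neg_cancel, add_neg_cancel, f_neg_left, sympForm_self, neg_zero,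
      y_zero, ψ_zero, mul_one, mul_one]

/-- The stabiliser of a vector. -/
def vecStab (e : Fin m ⊕ Fin m → F) : Subgroup (symplecticGroup (Fin m) F) where
  carrier := {A | (A : Mat) *ᵥ e = e}
  one_mem' := one_mulVec e
  mul_mem' {A B} hA hB := by
    simp only [Set.mem_setOf_eq] at hA hB ⊢
    rw [mul_mulVec_sp, hB, hA]
  inv_mem' hA := inv_mulVec_of_eq hA

theorem un_split {w : Fin m ⊕ Fin m → F} (hwe : f e w = 0) (a : F) : un e w a = un e w 0 * un e 0 a := by
  rw [un_mul hwe (f_zero_right e), add_zero, zero_add, f_zero_left, add_zero]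

/-- Descent to the stabiliser of a vector. -/
theorem to_stab [Fintype F] (p : ℕ) [Fact p.Prime] [CharP F p] (hsurj0 : Function.Surjective σ)
    (hcen : σ.ker ≤ Subgroup.center E) (hker : IsPGroup p σ.ker) (hS : Good S) (P : Pair S e h) :
    ∀ z ∈ σ.ker, z ∈ ⁅pre σ S, pre σ S⁆ →
      z ∈ ⁅pre σ S ⊓ (vecStab e).comap σ, pre σ S ⊓ (vecStab e).comap σ⁆ := by
  classical
  intro z hz hd
  set Γ := pre σ S with hΓ
  set σ' : Γ →* Sp := σ.comp Γ.subtype with hσ'
  set H : Subgroup Γ := (vecStab e).comap σ' with hH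
  have hzΓ : z ∈ Γ := ker_le_pre σ S hz
  have hidx : ¬ p ∣ H.index := by
    let X := {v : perp S // v ≠ 0}
    let φ : Γ → X := fun g => ⟨⟨(σ g.1 : Mat) *ᵥ e, fixer_perp g.2 P.he⟩, fun h0 => by
      have h1 := inv_mulVec_of_eq (show (σ g.1 : Mat) *ᵥ e = 0 from congrArg Subtype.val h0)
      rw [Matrix.mulVec_zero] at h1
      exact P.e_ne h1.symm⟩
    have hφ : ∀ a b : Γ, φ a = φ b ↔ a⁻¹ * b ∈ H := fun a b => by
      rw [hH, Subgroup.mem_comap, map_mul, map_inv]
      show _ ↔ (((σ' a)⁻¹ * σ' b : Sp) : Mat) *ᵥ e = e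
      rw [mul_mulVec_sp]
      constructor
      · intro h1
        exact inv_mulVec_of_eq (congrArg (fun x : X => x.1.1) h1)
      · intro h1
        refine Subtype.ext (Subtype.ext ?_)
        have h2 := congrArg (fun v => (σ a.1 : Mat) *ᵥ v) h1
        simp only [← mul_mulVec_sp] at h2
        show (σ a.1 : Mat) *ᵥ e = (σ b.1 : Mat) *ᵥ e
        refine h2.symm.trans (congrArg (fun A : Sp => (A : Mat) *ᵥ e) ?_)
        simp [σ']
    let Φ : Γ ⧸ H → X := fun x => Quotient.liftOn' x φ fun a b hab =>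
      (hφ a b).2 (QuotientGroup.leftRel_apply.1 hab)
    have hΦ : Function.Bijective Φ := by
      constructor
      · intro x y
        induction x using QuotientGroup.induction_on with
        | H a =>
          induction y using QuotientGroup.induction_on with
          | H b => exact fun hab => QuotientGroup.eq.2 ((hφ a b).1 hab)
      · rintro ⟨⟨v, hv⟩, hne⟩
        obtain ⟨A, hA, hAe⟩ := move_vec hS P.he P.e_ne hv (fun h0 => hne (Subtype.ext h0))
        obtain ⟨g, rfl⟩ := hsurj0 A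
        exact ⟨QuotientGroup.mk (⟨g, hA⟩ : Γ), Subtype.ext (Subtype.ext hAe)⟩
    rw [Subgroup.index, Nat.card_eq_of_bijective Φ hΦ]
    intro hdvd
    have hcard : Nat.card (perp S) = Nat.card X + 1 := by
      have : Fintype (perp S) := Fintype.ofFinite _
      rw [Nat.card_eq_fintype_card, Nat.card_eq_fintype_card, Fintype.card_subtype_compl,
        Fintype.card_subtype_eq]
      have : 0 < Fintype.card (perp S) := Fintype.card_pos
      omega
    have hp : p ∣ Nat.card (perp S) := by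
      have h1 : addOrderOf (⟨e, P.he⟩ : perp S) = p := by
        refine addOrderOf_eq_prime ?_ fun h0 => P.e_ne (congrArg Subtype.val h0)
        refine Subtype.ext ?_
        show p • e = 0
        rw [← Nat.cast_smul_eq_nsmul F, CharP.cast_eq_zero, zero_smul]
      rw [← h1]
      exact addOrderOf_dvd_natCard _
    rw [hcard] at hp
    have : p ∣ 1 := (Nat.dvd_add_right hdvd).1 hp
    exact (Fact.out : p.Prime).one_lt.ne' (Nat.dvd_one.1 this)
  have hzd : (⟨z, hzΓ⟩ : Γ) ∈ commutator Γ := by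
    have : z ∈ (commutator Γ).map Γ.subtype := by rwa [Γ.map_subtype_commutator]
    obtain ⟨⟨z', hz'⟩, h1, rfl⟩ := this
    exact h1
  obtain ⟨k, hk⟩ := hker ⟨z, hz⟩
  have hkH : σ'.ker ≤ H := fun x hx => by
    show σ' x ∈ vecStab e
    rw [MonoidHom.mem_ker.1 hx]
    exact one_mem _
  have hcen' : σ'.ker ≤ Subgroup.center Γ := fun x hx => Subgroup.mem_center_iff.2 fun g =>
    Subtype.ext (Subgroup.mem_center_iff.1 (hcen (show x.1 ∈ σ.ker from hx)) g.1)
  have hzH := SLnSystem.mem_derived_of_index (σ := σ') hcen' H hkH hidx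
    (z := ⟨z, hzΓ⟩) hz hzd ⟨k, Subtype.ext (show z ^ p ^ k = 1 from congrArg Subtype.val hk)⟩
  have hmap : H.map Γ.subtype = pre σ S ⊓ (vecStab e).comap σ := by
    rw [hH, inf_comm, ← Subgroup.subgroupOf_map_subtype]
    rfl
  rw [← hmap, ← Subgroup.map_commutator]
  exact ⟨_, hzH, rfl⟩

open scoped commutatorElement in
/-- One step of the descent. -/
theorem step [Fintype F] (p : ℕ) [Fact p.Prime] [CharP F p] (hsurj0 : Function.Surjective σ) (hcen : σ.ker ≤ Subgroup.center E)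
    (hker : IsPGroup p σ.ker) (hS : Good S) (Q : Section σ P)
    (ih : ∀ z ∈ σ.ker, z ∈ ⁅pre σ (next S e h), pre σ (next S e h)⁆ → z = 1) :
    ∀ z ∈ σ.ker, z ∈ ⁅pre σ S, pre σ S⁆ → z = 1 := by
  classical
  intro z hz hd
  have hz' := to_stab p hsurj0 hcen hker hS P z hz hd
  -- the stabiliser is the lifted radical times the next level
  set L := pre σ (next S e h) with hL
  set N := hat Q with hN
  have hconj : ∀ l ∈ L, ∀ n ∈ N, l * n * l⁻¹ ∈ N := by
    rintro l hl n ⟨w, hw, a, rfl⟩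
    refine ⟨_, fixer_perp hl hw, a, ?_⟩
    rw [← Q.y_conj l hl w hw]
    nth_rw 2 [← Q.ψ_conj l hl a]
    group
  have hnorm : L ≤ Subgroup.normalizer (N : Set E) := fun l hl => by
    rw [Subgroup.mem_normalizer_iff]
    refine fun n => ⟨hconj l hl n, fun hn => ?_⟩
    have := hconj l⁻¹ (inv_mem hl) _ hn
    rwa [show l⁻¹ * (l * n * l⁻¹) * l⁻¹⁻¹ = n by group] at this
  have hdec : ∀ x ∈ pre σ S ⊓ (vecStab e).comap σ, ∃ n ∈ N, ∃ l ∈ L, x = n * l := by
    rintro x ⟨hxS, hx⟩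
    obtain ⟨w, hw, a, l₀, hl₀, hA⟩ := stab_decomp P hxS (show (σ x : Mat) *ᵥ e = e from hx)
    refine ⟨Q.y w * Q.ψ a, ⟨w, hw, a, rfl⟩, (Q.y w * Q.ψ a)⁻¹ * x, ?_, (mul_inv_cancel_left _ _).symm⟩
    show σ _ ∈ fixer (next S e h)
    rw [map_mul, map_inv, map_mul, Q.y_lift w hw, Q.ψ_lift, ← un_split (mem_next.1 hw).2.1, hA,
      inv_mul_cancel_left]
    exact hl₀
  set D := ⁅L, L⁆ with hD
  have hDL : D ≤ L := Subgroup.commutator_le.2 fun a ha b hb =>
    mul_mem (mul_mem (mul_mem ha hb) (inv_mem ha)) (inv_mem hb)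
  have hmem : z ∈ N ⊔ D := by
    have hle : ⁅pre σ S ⊓ (vecStab e).comap σ, pre σ S ⊓ (vecStab e).comap σ⁆ ≤ N ⊔ D := by
      rw [Subgroup.commutator_le]
      intro a ha b hb
      obtain ⟨n, hn, l, hl, rfl⟩ := hdec a ha
      obtain ⟨n', hn', l', hl', rfl⟩ := hdec b hb
      have key : ⁅n * l, n' * l'⁆ = n * (l * n' * l⁻¹) *
          ((l * l' * l⁻¹) * n⁻¹ * (l * l' * l⁻¹)⁻¹) * ⁅l, l'⁆ * n'⁻¹ := by
        simp only [commutatorElement_def]
        group
      rw [key]
      have hll : l * l' * l⁻¹ ∈ L := mul_mem (mul_mem hl hl') (inv_mem hl)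
      exact mul_mem (mul_mem (mul_mem (mul_mem (Subgroup.mem_sup_left hn)
        (Subgroup.mem_sup_left (hconj l hl n' hn'))) (Subgroup.mem_sup_left (hconj _ hll _ (inv_mem hn))))
        (Subgroup.mem_sup_right (Subgroup.commutator_mem_commutator hl hl')))
        (Subgroup.mem_sup_left (inv_mem hn'))
    exact hle hz'
  rw [← SetLike.mem_coe, Subgroup.coe_mul_of_right_le_normalizer_left N D (hDL.trans hnorm),
    Set.mem_mul] at hmem
  obtain ⟨n, ⟨w, hw, a, rfl⟩, d, hd', rfl⟩ := hmem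
  have h1 : un e w a * σ d = 1 := by
    rw [un_split (mem_next.1 hw).2.1, ← Q.y_lift w hw, ← Q.ψ_lift, ← map_mul, ← map_mul]
    exact hz
  obtain ⟨rfl, rfl⟩ := un_eq_one P hw (hDL hd') h1
  rw [y_zero, ψ_zero, one_mul, one_mul] at hz ⊢
  exact ih d hz hd'

open scoped commutatorElement in
/-- The last step of the descent. -/
theorem step_last [Fintype F] (p : ℕ) [Fact p.Prime] [CharP F p] (hsurj0 : Function.Surjective σ)
    (hcen : σ.ker ≤ Subgroup.center E) (hker : IsPGroup p σ.ker) (hS : Good S) (P : Pair S e h)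
    (hbot : perp (next S e h) = ⊥)
    (hab : ∀ x y : E, ∀ a b : F, σ x = un e 0 a → σ y = un e 0 b → Commute x y) :
    ∀ z ∈ σ.ker, z ∈ ⁅pre σ S, pre σ S⁆ → z = 1 := by
  intro z hz hd
  have hle : ⁅pre σ S ⊓ (vecStab e).comap σ, pre σ S ⊓ (vecStab e).comap σ⁆ = ⊥ := by
    rw [eq_bot_iff, Subgroup.commutator_le]
    have key : ∀ x ∈ pre σ S ⊓ (vecStab e).comap σ, ∃ a : F, σ x = un e 0 a := by
      rintro x ⟨hxS, hx⟩
      obtain ⟨w, hw, a, l, hl, hA⟩ := stab_decomp P hxS (show (σ x : Mat) *ᵥ e = e from hx)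
      rw [hbot, Submodule.mem_bot] at hw
      have hl1 : l = 1 := sp_ext fun v => by
        rw [hl v fun u hu => ?_]
        · exact (one_mulVec v).symm
        · rw [hbot, Submodule.mem_bot] at hu
          rw [hu, f_zero_left]
      exact ⟨a, by rw [hA, hw, hl1, mul_one]⟩
    intro x hx y hy
    obtain ⟨a, ha⟩ := key x hx
    obtain ⟨b, hb⟩ := key y hy
    rw [Subgroup.mem_bot, commutatorElement_eq_one_iff_mul_comm]
    exact (hab x y a b ha hb).eq
  have := to_stab p hsurj0 hcen hker hS P z hz hd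
  rwa [hle, Subgroup.mem_bot] at this

/-- Levels without room. -/
theorem bot_eq (hcen : σ.ker ≤ Subgroup.center E) (hbot : perp S = ⊥) :
    ∀ z ∈ σ.ker, z ∈ ⁅pre σ S, pre σ S⁆ → z = 1 := by
  intro z _ hd
  have hle : pre σ S ≤ σ.ker := fun x hx => MonoidHom.mem_ker.2 (sp_ext fun v => by
    rw [(show σ x ∈ fixer S from hx) v fun u hu => by
      rw [hbot, Submodule.mem_bot] at hu
      rw [hu, f_zero_left]]
    exact (one_mulVec v).symm)
  have h1 : ⁅pre σ S, pre σ S⁆ = ⊥ :=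
    le_bot_iff.1 ((Subgroup.commutator_mono (hle.trans hcen) le_top).trans
      (Subgroup.commutator_eq_bot_iff_le_centralizer.2 (by
        rw [Subgroup.coe_top, Subgroup.centralizer_univ])).le)
  rwa [h1, Subgroup.mem_bot] at hd

end Cfsg.Agent.SimpleFacts.SpMult.Radical
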