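import Cfsg.Agent.SimpleFacts.SpMult.Pairing
import Cfsg.Agent.SimpleFacts.SpMult.Radical
import Mathlib

/-!
Small facts shared by the constructions of sections of the radical.
-/

set_option autoImplicit false
set_option linter.unusedSectionVars false
set_option linter.unusedSimpArgs false

namespace Cfsg.Agent.SimpleFacts.SpMult.Common

open Matrix
open Cfsg.Agent.Forms.SympStd Cfsg.Agent.Classical.Symplectic Cfsg.Agent.SimpleFacts.SpMult
open Levels Lifts
open scoped commutatorElement

universe u v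

variable {F : Type u} [Field F] {m : ℕ}

local notation "Vec" => (Fin m ⊕ Fin m → F)
local notation "Mat" => Matrix (Fin m ⊕ Fin m) (Fin m ⊕ Fin m) F
local notation "Sp" => symplecticGroup (Fin m) F
local notation "f" => Cfsg.sympForm m F

variable {E : Type v} [Group E] [Finite E]

theorem coprime_ker {G : Type*} [Group G] {σ : E →* G} {p : ℕ} [Fact p.Prime] (hker : IsPGroup p σ.ker) {n : ℕ}
    (hn : ¬ p ∣ n) : n.Coprime (Nat.card σ.ker) := by
  obtain ⟨k, hk⟩ := IsPGroup.iff_card.1 hker
  rw [hk]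
  exact Nat.Coprime.pow_right k ((Fact.out : p.Prime).coprime_iff_not_dvd.2 hn).symm

/-- A lift of an element of order prime to the kernel centralises every lift of what it centralises. -/
theorem commute_lifts {G : Type*} [Group G] {σ : E →* G} (hcen : σ.ker ≤ Subgroup.center E) {n : ℕ}
    (hn : n.Coprime (Nat.card σ.ker)) {g s : E} (hg : σ g ^ n = 1) (h : Commute (σ g) (σ s)) : Commute g s := by
  obtain ⟨k, hk, he⟩ := mul_ker (σ := σ) (y := g * s * g⁻¹) (y' := s)
    (by rw [map_mul, map_mul, map_inv, h.eq, mul_inv_cancel_right])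
  have hkc : ∀ x : E, x * k = k * x := fun x => Subgroup.mem_center_iff.1 (hcen hk) x
  have hpow : ∀ j : ℕ, g ^ j * s * (g ^ j)⁻¹ = s * k ^ j := by
    intro j
    induction j with
    | zero => simp
    | succ j ih =>
      calc g ^ (j + 1) * s * (g ^ (j + 1))⁻¹ = g * (g ^ j * s * (g ^ j)⁻¹) * g⁻¹ := by
            rw [pow_succ']; group
        _ = g * s * (k ^ j * g⁻¹) := by rw [ih]; group
        _ = g * s * (g⁻¹ * k ^ j) := by rw [((show Commute g⁻¹ k from hkc g⁻¹).pow_right j).eq]
        _ = (g * s * g⁻¹) * k ^ j := by group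
        _ = _ := by rw [he, mul_assoc, ← pow_succ']
  have hgn : g ^ n ∈ Subgroup.center E := hcen (by rw [MonoidHom.mem_ker, map_pow, hg])
  have h1 := hpow n
  rw [← Subgroup.mem_center_iff.1 hgn s, mul_inv_cancel_right, left_eq_mul] at h1
  have h2 : k = 1 := lift_unique hcen hn (by rw [MonoidHom.mem_ker.1 hk, map_one]) h1 (one_pow n)
  rw [h2, mul_one] at he
  exact mul_inv_eq_iff_eq_mul.1 he

theorem un_zero_eq_tv (e : Fin m ⊕ Fin m → F) (a : F) : un e 0 a = tv e a := by
  refine sp_ext fun x => ?_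
  rw [un_mulVec (f_zero_right e), tv_mulVec, f_zero_right]
  simp

theorem un_short (e w : Fin m ⊕ Fin m → F) (hw : f e w = 0) (a : F) :
    Commute (un e w 0) (un e 0 a : Sp) := by
  show _ * _ = _ * _
  rw [un_mul hw (f_zero_right e), un_mul (f_zero_right e) hw, f_zero_left, f_zero_right]
  congr 1 <;> abel

variable {σ : E →* ↥(symplecticGroup (Fin m) F)}

/-- A section makes the lifts of the long group commute. -/
theorem abelian_of_section {S : Set (Fin m ⊕ Fin m → F)} {e h : Fin m ⊕ Fin m → F} {P : Pair S e h}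
    (hcen : σ.ker ≤ Subgroup.center E) (Q : Radical.Section σ P) {x y : E} {a b : F}
    (hx : σ x = un e 0 a) (hy : σ y = un e 0 b) : Commute x y := by
  obtain ⟨k, hk, rfl⟩ := mul_ker (σ := σ) (y := x) (y' := Q.ψ a) (by rw [hx, Q.ψ_lift])
  obtain ⟨l, hl, rfl⟩ := mul_ker (σ := σ) (y := y) (y' := Q.ψ b) (by rw [hy, Q.ψ_lift])
  have hkc : ∀ z, Commute k z := fun z => (Subgroup.mem_center_iff.1 (hcen hk) z).symm
  have hlc : ∀ z, Commute l z := fun z => (Subgroup.mem_center_iff.1 (hcen hl) z).symm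
  have h0 : Commute (Q.ψ a) (Q.ψ b) := by
    show _ * _ = _ * _
    rw [Q.ψ_add, Q.ψ_add, add_comm]
  exact (h0.mul_right (hlc _).symm).mul_left (hkc _)

/-- Commuting of the lifts of one long group spreads to all. -/
theorem abelian_all (hsurj : Function.Surjective σ) {e : Fin m ⊕ Fin m → F} (he : e ≠ 0)
    (hab : ∀ x y : E, ∀ a b : F, σ x = un e 0 a → σ y = un e 0 b → Commute x y) {v : Fin m ⊕ Fin m → F}
    (hv : v ≠ 0) : ∀ x y : E, ∀ a b : F, σ x = un v 0 a → σ y = un v 0 b → Commute x y := by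
  intro x y a b hx hy
  obtain ⟨A, hA⟩ := exists_move he hv
  obtain ⟨g, rfl⟩ := hsurj A
  have hc : ∀ (z : E) (c : F), σ z = un v 0 c → σ (g⁻¹ * z * g) = un e 0 c := by
    intro z c hz
    have := un_conj (σ g) e 0 c
    rw [hA, Matrix.mulVec_zero, ← hz] at this
    rw [map_mul, map_mul, map_inv, ← this]
    group
  have := (hab _ _ a b (hc x a hx) (hc y b hy)).map (MulAut.conj g).toMonoidHom
  simpa [MulAut.conj_apply, mul_assoc] using this

end Cfsg.Agent.SimpleFacts.SpMult.Common
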