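import Cfsg.Agent.SimpleFacts.SLTwoMultiplier
import Mathlib

/-!
Central extensions of `SL₂(q)` of order prime to the characteristic, generated by elements of that order.
-/

set_option autoImplicit false

namespace Cfsg.Agent.SimpleFacts.SpMult.RankOne

open scoped MatrixGroups
open Cfsg.Agent.Classical

universe u v

/-- Such an extension is trivial. -/
theorem ker_bot {F : Type u} [Field F] [Fintype F] (p : ℕ) [Fact p.Prime] [CharP F p] {B : Type v} [Group B]
    [Finite B] (τ : B →* SL(2, F)) (hsurj : Function.Surjective τ) (hcen : τ.ker ≤ Subgroup.center B)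
    (hp : ¬ p ∣ Nat.card τ.ker) {T : Set B} (hgen : Subgroup.closure T = ⊤) (hT : ∀ s ∈ T, s ^ p = 1) :
    τ.ker = ⊥ := by
  classical
  have hall : ∀ g : B, Abelianization.of g ^ p = 1 := by
    intro g
    have hg : g ∈ Subgroup.closure T := hgen ▸ Subgroup.mem_top g
    induction hg using Subgroup.closure_induction with
    | mem y hy => rw [← map_pow, hT y hy, map_one]
    | one => rw [map_one, one_pow]
    | mul y z _ _ h₁ h₂ => rw [map_mul, mul_pow, h₁, h₂, one_mul]
    | inv y _ h₁ => rw [map_inv, inv_pow, h₁, inv_one]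
  have hcop : ∀ z ∈ τ.ker, ¬ p ∣ orderOf z := fun z hz hdvd =>
    hp (hdvd.trans ((Subgroup.orderOf_mk z hz).symm ▸ orderOf_dvd_natCard (⟨z, hz⟩ : τ.ker)))
  have hstem : Cfsg.IsStemExtension τ := by
    refine ⟨hsurj, hcen, fun y hy => ?_⟩
    rw [← Abelianization.ker_of, MonoidHom.mem_ker, ← orderOf_eq_one_iff]
    rcases (Nat.dvd_prime Fact.out).1 (orderOf_dvd_of_pow_eq_one (hall y)) with h | h
    · exact h
    · exact absurd (h ▸ orderOf_map_dvd _ y) (hcop y hy)
  refine SLTwoMultiplier.ker_eq_bot τ fun r _ P z hz hzP => ?_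
  by_cases hrp : r = p
  · subst hrp
    by_contra hne
    obtain ⟨k, hk⟩ := P.isPGroup' ⟨z, hzP⟩
    obtain ⟨j, -, hj⟩ := (Nat.dvd_prime_pow Fact.out).1
      (orderOf_dvd_of_pow_eq_one (congrArg Subtype.val hk : z ^ r ^ k = 1))
    rcases Nat.eq_zero_or_pos j with rfl | hj0
    · exact hne (orderOf_eq_one_iff.1 (by rw [hj, pow_zero]))
    · exact hcop z hz (hj ▸ dvd_pow_self r hj0.ne')
  set R : Sylow r (SL(2, F)) := P.mapSurjective hsurj with hR
  let ρ : (P : Subgroup B) →* (R : Subgroup (SL(2, F))) :=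
    (τ.comp (P : Subgroup B).subtype).codRestrict _ fun y => ⟨y.1, y.2, rfl⟩
  have hρs : Function.Surjective ρ := by
    rintro ⟨y, w, hw, rfl⟩
    exact ⟨⟨w, hw⟩, rfl⟩
  have hρk : ρ.ker ≤ Subgroup.center (P : Subgroup B) := fun y hy => by
    rw [Subgroup.mem_center_iff]
    intro w
    exact Subtype.ext (Subgroup.mem_center_iff.1 (hcen (MonoidHom.mem_ker.2
      (congrArg Subtype.val (MonoidHom.mem_ker.1 hy)))) w.1)
  by_cases hr2 : r = 2
  · subst hr2
    have hodd : Odd (Fintype.card F) := by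
      obtain ⟨f, hp', hf⟩ := FiniteField.card F p
      rw [hf]
      exact (hp'.odd_of_ne_two (Ne.symm hrp)).pow
    obtain ⟨⟨d⟩, -⟩ := SylowSL2.sylow_two hodd R
    haveI : NeZero (2 ^ ((Nat.card (SL(2, F))).factorization 2 - 2)) := ⟨pow_ne_zero _ two_ne_zero⟩
    let θ := d.toMonoidHom.comp ρ
    have hk : θ.ker = ρ.ker := by
      ext y
      simp [θ, MonoidHom.mem_ker]
    have hθ : Cfsg.IsStemExtension θ := by
      refine ⟨d.surjective.comp hρs, hk.le.trans hρk, fun y hy => ?_⟩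
      have hy' : τ y.1 = 1 := congrArg Subtype.val (MonoidHom.mem_ker.1 (hk.le hy))
      exact SLTwoMultiplier.mem_commutator_sylow P (hcen (MonoidHom.mem_ker.2 hy'))
        (hstem.2.2 (MonoidHom.mem_ker.2 hy')) y.2
    have hbot := SLTwoMultiplier.quaternion_stem _ θ hθ
    have hm : (⟨z, hzP⟩ : (P : Subgroup B)) ∈ θ.ker := by
      rw [hk, MonoidHom.mem_ker]
      exact Subtype.ext (MonoidHom.mem_ker.1 hz)
    rw [hbot, Subgroup.mem_bot] at hm
    exact congrArg Subtype.val hm
  · refine SLTwoMultiplier.eq_one_of_abelian τ hstem P (fun s hs t ht => ?_) hz hzP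
    have := SylowSL2.isCyclic_sylow p r hr2 hrp R
    have hc := ρ.isMulCommutative_of_isCyclic_of_ker_le_center hρk
    exact congrArg Subtype.val (hc.is_comm.comm ⟨s, hs⟩ ⟨t, ht⟩)

end Cfsg.Agent.SimpleFacts.SpMult.RankOne
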