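import Cfsg.Agent.SimpleFacts.SpMult.Levels
import Cfsg.Agent.SimpleFacts.SpMult.Lifts
import Cfsg.Agent.SimpleFacts.SpMult.RankOne
import Mathlib

/-!
A central extension of the symplectic group with kernel of order prime to the characteristic splits over the
subgroup generated by the lifts of transvections.
-/

set_option autoImplicit false
set_option linter.unusedSectionVars false
set_option linter.unusedSimpArgs false

namespace Cfsg.Agent.SimpleFacts.SpMult.Coprime

open Matrix
open Cfsg.Agent.Forms.SympStd Cfsg.Agent.Classical.Symplectic Cfsg.Agent.SimpleFacts.SpMult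
open Levels Lifts

universe u v

variable {F : Type u} [Field F] {m : ℕ}

local notation "Vec" => (Fin m ⊕ Fin m → F)
local notation "Mat" => Matrix (Fin m ⊕ Fin m) (Fin m ⊕ Fin m) F
local notation "Sp" => symplecticGroup (Fin m) F
local notation "f" => Cfsg.sympForm m F

variable {E : Type v} [Group E] [Finite E] (σ : E →* ↥(symplecticGroup (Fin m) F)) (p : ℕ) [Fact p.Prime]

/-- Lifts of transvections. -/
noncomputable def tl (v : Vec) (c : F) : E := pl σ p (tv v c)

/-- The lifted level. -/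
noncomputable def lev (S : Set Vec) : Subgroup E :=
  Subgroup.closure {y | ∃ v ∈ perp S, ∃ c : F, y = tl σ p v c}

/-- The lifted stabiliser. -/
noncomputable def Kt (S : Set Vec) (e : Vec) : Subgroup E :=
  Subgroup.closure {y | ∃ v ∈ perp S, f v e = 0 ∧ ∃ c : F, y = tl σ p v c}

/-- The lift moving one vector to another. -/
noncomputable def tau (a b : Vec) : E := tl σ p (b - a) (f a b)⁻¹

theorem tl_mem_lev {S : Set Vec} {v : Vec} (hv : v ∈ perp S) (c : F) : tl σ p v c ∈ lev σ p S :=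
  Subgroup.subset_closure ⟨v, hv, c, rfl⟩

theorem tl_mem_Kt {S : Set Vec} {e v : Vec} (hv : v ∈ perp S) (h : f v e = 0) (c : F) :
    tl σ p v c ∈ Kt σ p S e :=
  Subgroup.subset_closure ⟨v, hv, h, c, rfl⟩

theorem Kt_le_lev (S : Set Vec) (e : Vec) : Kt σ p S e ≤ lev σ p S :=
  Subgroup.closure_mono fun _ ⟨v, hv, _, c, h⟩ => ⟨v, hv, c, h⟩

theorem tau_mem_lev {S : Set Vec} {a b : Vec} (ha : a ∈ perp S) (hb : b ∈ perp S) :
    tau σ p a b ∈ lev σ p S :=
  tl_mem_lev σ p (sub_mem hb ha) _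

theorem tv_pow (v : Vec) (c : F) : ∀ n : ℕ, (tv v c : Sp) ^ n = tv v (n * c)
  | 0 => by rw [pow_zero, Nat.cast_zero, zero_mul, tv_zero]
  | n + 1 => by rw [pow_succ, tv_pow v c n, tv_mul, Nat.cast_succ, add_mul, one_mul]

theorem un_pow {e w : Vec} (hw : f e w = 0) (a : F) : ∀ n : ℕ, un e w a ^ n = un e ((n : F) • w) (n * a)
  | 0 => by rw [pow_zero, Nat.cast_zero, zero_smul, zero_mul, un_zero]
  | n + 1 => by
    rw [pow_succ, un_pow hw a n, un_mul (by rw [f_smul_right, hw, mul_zero]) hw, f_smul_right, sympForm_self,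
      Nat.cast_succ, add_smul, one_smul, add_mul, one_mul, mul_zero, add_zero]

theorem tv_commute {v v' : Vec} (h : f v v' = 0) (c c' : F) : Commute (tv v c) (tv v' c' : Sp) := by
  have := tv_conj (tv v c) v' c'
  rw [tv_mulVec, f_symm_zero h, mul_zero, zero_smul, add_zero] at this
  exact mul_inv_eq_iff_eq_mul.1 this

theorem tv_eq_un {e w : Vec} (hw : f e w = 0) (α c : F) :
    (tv (α • e + w) c : Sp) = un e ((c * α) • w) (c * α * α) * tv w c := by
  refine sp_ext fun x => ?_
  rw [mul_mulVec_sp, un_mulVec (by rw [f_smul_right, hw, mul_zero])]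
  simp only [tv_mulVec, f_add_left, f_add_right, f_smul_left, f_smul_right, sympForm_self, hw,
    f_symm_zero hw]
  module

/-- The radical of the stabiliser. -/
def radical {S : Set Vec} {e h : Vec} (P : Pair S e h) : Subgroup Sp where
  carrier := {x | ∃ w ∈ perp (next S e h), ∃ a : F, x = un e w a}
  one_mem' := ⟨0, zero_mem _, 0, (un_zero e).symm⟩
  mul_mem' := by
    rintro x y ⟨w, hw, a, rfl⟩ ⟨w', hw', a', rfl⟩
    exact ⟨w + w', add_mem hw hw', _, un_mul (mem_next.1 hw).2.1 (mem_next.1 hw').2.1 a a'⟩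
  inv_mem' := by
    rintro x ⟨w, hw, a, rfl⟩
    refine ⟨-w, neg_mem hw, -a, inv_eq_of_mul_eq_one_right ?_⟩
    rw [un_mul (mem_next.1 hw).2.1 (mem_next.1 (neg_mem hw)).2.1, add_neg_cancel, add_neg_cancel,
      f_neg_left, sympForm_self, neg_zero, add_zero, un_zero]

section block

/-- The plane of a pair as a level. -/
def plane (S : Set Vec) (e h : Vec) : Set Vec := S ∪ (perp (next S e h) : Set Vec)

variable {S : Set (Fin m ⊕ Fin m → F)} {e h : Fin m ⊕ Fin m → F}

theorem plane_le {v : Vec} (hv : v ∈ perp (plane S e h)) : v ∈ perp S := fun s hs => hv s (Or.inl hs)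

theorem plane_pair (P : Pair S e h) : Pair (plane S e h) e h := by
  refine ⟨?_, ?_, P.heh⟩
  · rintro s (hs | hs)
    exacts [P.he s hs, f_symm_zero (mem_next.1 hs).2.1]
  · rintro s (hs | hs)
    exacts [P.hh s hs, f_symm_zero (mem_next.1 hs).2.2]

theorem plane_decomp (hS : Good S) (P : Pair S e h) {u : Vec} (hu : u ∈ perp (plane S e h)) :
    u = f u h • e + f e u • h := by
  have h1 : proj e h u = 0 := by
    by_contra hne
    obtain ⟨w, hw, hvw⟩ := good_next hS P _ (proj_mem P (plane_le hu)) hne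
    have : f (proj e h u) w = 0 := by
      obtain ⟨-, hwe, hwh⟩ := mem_next.1 hw
      simp only [proj, f_sub_left, f_smul_left, f_symm_zero (hu w (Or.inr hw)), hwe, hwh]
      ring
    rw [this] at hvw
    exact zero_ne_one hvw
  have := proj_add e h u
  rwa [h1, zero_add] at this

theorem good_plane (hS : Good S) (P : Pair S e h) : Good (plane S e h) := by
  intro v hv hne
  have hd := plane_decomp hS P hv
  by_cases h0 : f v h = 0
  · have h1 : f e v ≠ 0 := fun h1 => hne (by rw [hd, h0, h1, zero_smul, zero_smul, add_zero])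
    refine ⟨(-(f e v))⁻¹ • e, Submodule.smul_mem _ _ (plane_pair P).he, ?_⟩
    rw [f_smul_right, sympForm_swap e v, inv_mul_cancel₀ (neg_ne_zero.2 h1)]
  · exact ⟨(f v h)⁻¹ • h, Submodule.smul_mem _ _ (plane_pair P).hh, by
      rw [f_smul_right, inv_mul_cancel₀ h0]⟩

theorem plane_next (hS : Good S) (P : Pair S e h) {A : Sp} (hA : A ∈ fixer (next (plane S e h) e h)) :
    A = 1 := by
  refine sp_ext fun x => ?_
  rw [hA x fun u hu => ?_]
  · exact (one_mulVec x).symm
  · obtain ⟨hu1, hue, huh⟩ := mem_next.1 hu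
    rw [plane_decomp hS P hu1, hue, f_symm_zero huh, zero_smul, zero_smul, add_zero, f_zero_left]

theorem plane_next_bot (hS : Good S) (P : Pair S e h) {a a' : Fin m ⊕ Fin m → F}
    (P2 : Pair (plane S e h) a a') : perp (next (plane S e h) a a') = ⊥ := by
  rw [eq_bot_iff]
  intro w hw
  rw [Submodule.mem_bot]
  obtain ⟨hw1, hwa, hwh⟩ := mem_next.1 hw
  have h1 := plane_decomp hS P hw1
  have haa := P2.heh
  rw [h1, plane_decomp hS P P2.he] at hwa
  rw [h1, plane_decomp hS P P2.hh] at hwh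
  rw [plane_decomp hS P P2.he, plane_decomp hS P P2.hh] at haa
  simp only [f_add_left, f_add_right, f_smul_left, f_smul_right, sympForm_self, P.heh, P.hhe] at hwa hwh haa
  have hα : f w h = 0 := by linear_combination f a' h * hwa - f a h * hwh - f w h * haa
  have hβ : f e w = 0 := by linear_combination f e a' * hwa - f e a * hwh - f e w * haa
  rw [h1, hα, hβ, zero_smul, zero_smul, add_zero]

/-- The entries of a block. -/
def blk (e h : Fin m ⊕ Fin m → F) (g : symplecticGroup (Fin m) F) : Matrix (Fin 2) (Fin 2) F :=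
  !![f ((g : Mat) *ᵥ e) h, f ((g : Mat) *ᵥ h) h; f e ((g : Mat) *ᵥ e), f e ((g : Mat) *ᵥ h)]

theorem blk_det (hS : Good S) (P : Pair S e h) (g : fixer (plane S e h)) : (blk e h g.1).det = 1 := by
  rw [blk, Matrix.det_fin_two_of]
  have h1 := plane_decomp hS P (fixer_perp g.2 (plane_pair P).he)
  have h2 := plane_decomp hS P (fixer_perp g.2 (plane_pair P).hh)
  have h3 := sympForm_mulVec g.1 e h
  conv_lhs at h3 => rw [h1, h2]
  rw [P.heh] at h3
  simp only [f_add_left, f_add_right, f_smul_left, f_smul_right, sympForm_self, P.heh, P.hhe] at h3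
  linear_combination h3

theorem blk_one (P : Pair S e h) : blk e h 1 = 1 := by
  simp only [blk, OneMemClass.coe_one, one_mulVec, sympForm_self, P.heh]
  exact Matrix.one_fin_two.symm

theorem blk_mul (hS : Good S) (P : Pair S e h) (g g' : fixer (plane S e h)) :
    blk e h (g.1 * g'.1) = blk e h g.1 * blk e h g'.1 := by
  have key : ∀ x ∈ perp (plane S e h), ∀ z : Vec,
      f ((g.1 : Mat) *ᵥ x) z = f x h * f ((g.1 : Mat) *ᵥ e) z + f e x * f ((g.1 : Mat) *ᵥ h) z ∧
      f z ((g.1 : Mat) *ᵥ x) = f x h * f z ((g.1 : Mat) *ᵥ e) + f e x * f z ((g.1 : Mat) *ᵥ h) := by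
    intro x hx z
    conv => lhs; lhs; rw [plane_decomp hS P hx]
    conv => rhs; lhs; rw [plane_decomp hS P hx]
    simp only [Matrix.mulVec_add, Matrix.mulVec_smul, f_add_left, f_add_right, f_smul_left, f_smul_right,
      and_self]
  have k1 := key _ (fixer_perp g'.2 (plane_pair P).he)
  have k2 := key _ (fixer_perp g'.2 (plane_pair P).hh)
  simp only [blk, mul_mulVec_sp, (k1 h).1, (k2 h).1, (k1 e).2, (k2 e).2, Matrix.mul_fin_two]
  ext i j
  fin_cases i <;> fin_cases j <;> simp <;> ring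

/-- The block homomorphism. -/
def phi (hS : Good S) (P : Pair S e h) : fixer (plane S e h) →* Matrix.SpecialLinearGroup (Fin 2) F where
  toFun g := ⟨blk e h g.1, blk_det hS P g⟩
  map_one' := Subtype.ext (blk_one P)
  map_mul' g g' := Subtype.ext (blk_mul hS P g g')

theorem phi_coe (hS : Good S) (P : Pair S e h) (g : fixer (plane S e h)) :
    ((phi hS P g : Matrix.SpecialLinearGroup (Fin 2) F) : Matrix (Fin 2) (Fin 2) F) = blk e h g.1 := rfl

theorem phi_injective (hS : Good S) (P : Pair S e h) : Function.Injective (phi hS P) := by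
  rw [← MonoidHom.ker_eq_bot_iff, eq_bot_iff]
  intro g hg
  rw [Subgroup.mem_bot]
  have hM : ∀ i j, ((phi hS P g : Matrix.SpecialLinearGroup (Fin 2) F) : Matrix (Fin 2) (Fin 2) F) i j =
      (1 : Matrix (Fin 2) (Fin 2) F) i j := fun i j => by
    rw [MonoidHom.mem_ker.1 hg, Matrix.SpecialLinearGroup.coe_one]
  have a : f ((g.1 : Mat) *ᵥ e) h = 1 := by simpa [phi_coe, blk] using hM 0 0
  have b : f ((g.1 : Mat) *ᵥ h) h = 0 := by simpa [phi_coe, blk] using hM 0 1
  have c : f e ((g.1 : Mat) *ᵥ e) = 0 := by simpa [phi_coe, blk] using hM 1 0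
  have d : f e ((g.1 : Mat) *ᵥ h) = 1 := by simpa [phi_coe, blk] using hM 1 1
  have h1 : (g.1 : Mat) *ᵥ e = e := by
    rw [plane_decomp hS P (fixer_perp g.2 (plane_pair P).he), a, c, one_smul, zero_smul, add_zero]
  have h2 : (g.1 : Mat) *ᵥ h = h := by
    rw [plane_decomp hS P (fixer_perp g.2 (plane_pair P).hh), b, d, zero_smul, one_smul, zero_add]
  exact Subtype.ext (plane_next hS P (mem_next_fixer (plane_pair P) g.2 h1 h2))

theorem phi_surjective (hS : Good S) (P : Pair S e h) : Function.Surjective (phi hS P) := by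
  rw [← MonoidHom.range_eq_top, eq_top_iff, ← Classical.Linear.closure_transvectionSet, Subgroup.closure_le]
  rintro g ⟨i, j, hij, c, rfl⟩
  fin_cases i <;> fin_cases j <;> try exact absurd rfl hij
  · refine ⟨⟨tv e (-c), tv_mem_fixer (plane_pair P).he _⟩, Subtype.ext ?_⟩
    show _ = Matrix.transvection (0 : Fin 2) 1 c
    rw [phi_coe]
    simp only [blk, tv_mulVec, f_add_left, f_add_right, f_smul_left,
      f_smul_right, sympForm_self, P.heh, P.hhe]
    ext a b
    fin_cases a <;> fin_cases b <;> simp [Matrix.transvection, Matrix.single_apply]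
  · refine ⟨⟨tv h c, tv_mem_fixer (plane_pair P).hh _⟩, Subtype.ext ?_⟩
    show _ = Matrix.transvection (1 : Fin 2) 0 c
    rw [phi_coe]
    simp only [blk, tv_mulVec, f_add_left, f_add_right, f_smul_left,
      f_smul_right, sympForm_self, P.heh, P.hhe]
    ext a b
    fin_cases a <;> fin_cases b <;> simp [Matrix.transvection, Matrix.single_apply]

end block

/-! ### Lifts -/

variable [CharP F p] (hsurj : Function.Surjective σ) (hcen : σ.ker ≤ Subgroup.center E)
  (hp : ¬ p ∣ Nat.card σ.ker)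

theorem tv_pp (v : Vec) (c : F) : (tv v c : Sp) ^ p ^ 1 = 1 := by
  rw [pow_one, tv_pow, CharP.cast_eq_zero, zero_mul, tv_zero]

theorem radical_isPGroup {S : Set Vec} {e h : Vec} (P : Pair S e h) : IsPGroup p (radical P) := by
  rintro ⟨x, w, hw, a, rfl⟩
  refine ⟨1, Subtype.ext ?_⟩
  show un e w a ^ p ^ 1 = 1
  rw [pow_one, un_pow (mem_next.1 hw).2.1, CharP.cast_eq_zero, zero_smul, zero_mul, un_zero]

include hsurj hcen hp

theorem tl_spec (v : Vec) (c : F) : σ (tl σ p v c) = tv v c ∧ tl σ p v c ^ p ^ 1 = 1 :=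
  pl_spec hsurj hcen hp (tv_pp p v c)

theorem tl_conj (g : E) (v : Vec) (c : F) : g * tl σ p v c * g⁻¹ = tl σ p ((σ g : Mat) *ᵥ v) c := by
  rw [tl, tl, pl_conj hsurj hcen hp (tv_pp p v c), tv_conj]

theorem map_lev {S : Set Vec} (hS : Good S) : (lev σ p S).map σ = fixer S := by
  rw [fixer_eq hS, lev, MonoidHom.map_closure]
  congr 1
  ext g
  constructor
  · rintro ⟨_, ⟨v, hv, c, rfl⟩, rfl⟩
    exact ⟨v, c, hv, by rw [(tl_spec σ p hsurj hcen hp v c).1]; rfl⟩
  · rintro ⟨v, c, hv, hg⟩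
    exact ⟨_, ⟨v, hv, c, rfl⟩, by rw [(tl_spec σ p hsurj hcen hp v c).1]; exact Subtype.ext hg.symm⟩

theorem lev_mem_fixer {S : Set Vec} (hS : Good S) {g : E} (hg : g ∈ lev σ p S) : σ g ∈ fixer S :=
  map_lev σ p hsurj hcen hp hS ▸ Subgroup.mem_map_of_mem σ hg

theorem tau_mulVec {a b : Vec} (h : f a b ≠ 0) : (σ (tau σ p a b) : Mat) *ᵥ a = b := by
  rw [tau, (tl_spec σ p hsurj hcen hp _ _).1, tv_move h]

theorem tau_conj (g : E) (a b : Vec) :
    g * tau σ p a b * g⁻¹ = tau σ p ((σ g : Mat) *ᵥ a) ((σ g : Mat) *ᵥ b) := by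
  rw [tau, tau, tl_conj σ p hsurj hcen hp, Matrix.mulVec_sub, sympForm_mulVec]

theorem tau_swap (a b : Vec) : tau σ p b a = (tau σ p a b)⁻¹ := by
  refine pl_eq hcen hp ?_ (k := 1) (by rw [inv_pow]; exact inv_eq_one.2 (tl_spec σ p hsurj hcen hp _ _).2)
  rw [map_inv, tau, (tl_spec σ p hsurj hcen hp _ _).1, inv_eq_iff_mul_eq_one]
  have e1 : a - b = (-1 : F) • (b - a) := by module
  rw [e1, tv_smul, tv_mul, sympForm_swap a b]
  rw [neg_one_mul, neg_neg, one_mul, inv_neg, add_neg_cancel, tv_zero]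

/-- The rank one blocks are injective. -/
theorem plane_inj {S : Set Vec} {e h : Vec} [Fintype F] (hS : Good S) (P : Pair S e h) {g : E}
    (hg : g ∈ lev σ p (plane S e h)) (h1 : σ g = 1) : g = 1 := by
  classical
  have hgood := good_plane hS P
  set B := lev σ p (plane S e h) with hB
  let ρ : B →* fixer (plane S e h) :=
    (σ.comp B.subtype).codRestrict _ fun y => lev_mem_fixer σ p hsurj hcen hp hgood y.2
  let τ : B →* Matrix.SpecialLinearGroup (Fin 2) F := (phi hS P).comp ρ
  have hτ : ∀ y : B, τ y = 1 ↔ σ y.1 = 1 := fun y => by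
    show phi hS P (ρ y) = 1 ↔ _
    rw [← map_one (phi hS P), (phi_injective hS P).eq_iff, Subtype.ext_iff]
    rfl
  have hτs : Function.Surjective τ := (phi_surjective hS P).comp fun x => by
    obtain ⟨y, hy, e⟩ : x.1 ∈ (lev σ p (plane S e h)).map σ := by
      rw [map_lev σ p hsurj hcen hp hgood]; exact x.2
    exact ⟨⟨y, hy⟩, Subtype.ext e⟩
  have hτc : τ.ker ≤ Subgroup.center B := fun y hy => Subgroup.mem_center_iff.2 fun x => Subtype.ext
    (Subgroup.mem_center_iff.1 (hcen (MonoidHom.mem_ker.2 ((hτ y).1 hy))) x.1)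
  have hτp : ¬ p ∣ Nat.card τ.ker := by
    intro hdvd
    obtain ⟨y, hy⟩ := exists_prime_orderOf_dvd_card' p hdvd
    have hy1 : y.1.1 ∈ σ.ker := MonoidHom.mem_ker.2 ((hτ y.1).1 y.2)
    refine hp ((?_ : p ∣ orderOf (⟨_, hy1⟩ : σ.ker)).trans (orderOf_dvd_natCard _))
    rw [Subgroup.orderOf_mk, Subgroup.orderOf_coe, Subgroup.orderOf_coe, hy]
  have hbot : τ.ker = ⊥ := by
    refine RankOne.ker_bot p τ hτs hτc hτp Subgroup.closure_closure_coe_preimage ?_
    rintro ⟨y, hy⟩ ⟨v, -, c, hv⟩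
    refine Subtype.ext ?_
    change y = tl σ p v c at hv
    show y ^ p = 1
    rw [hv]
    simpa only [pow_one] using (tl_spec σ p hsurj hcen hp v c).2
  have hm : (⟨g, hg⟩ : B) ∈ τ.ker := MonoidHom.mem_ker.2 ((hτ _).2 h1)
  rw [hbot, Subgroup.mem_bot] at hm
  exact congrArg Subtype.val hm

theorem lev_conj {S : Set Vec} {g : E} (hg : σ g ∈ fixer S) {y : E} (hy : y ∈ lev σ p S) :
    g * y * g⁻¹ ∈ lev σ p S := by
  induction hy using Subgroup.closure_induction with
  | mem y hy =>
    obtain ⟨v, hv, c, rfl⟩ := hy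
    rw [tl_conj σ p hsurj hcen hp]
    exact tl_mem_lev σ p (fixer_perp hg hv) c
  | one => simp [one_mem]
  | mul a b _ _ ha hb =>
    rw [← conj_mul]
    exact mul_mem ha hb
  | inv a _ ha =>
    rw [← conj_inv]
    exact inv_mem ha

/-- The lifted radical. -/
noncomputable def rad {S : Set Vec} {e h : Vec} (P : Pair S e h) : Subgroup E where
  carrier := {y | ∃ x ∈ radical P, y = pl σ p x}
  one_mem' := ⟨1, one_mem _, (pl_eq hcen hp (map_one σ) (k := 0) (one_pow _)).symm⟩
  mul_mem' := by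
    rintro a b ⟨x, hx, rfl⟩ ⟨x', hx', rfl⟩
    exact ⟨x * x', mul_mem hx hx', (pl_mul hsurj hcen hp (radical_isPGroup p P) hx hx').symm⟩
  inv_mem' := by
    rintro a ⟨x, hx, rfl⟩
    refine ⟨x⁻¹, inv_mem hx, inv_eq_of_mul_eq_one_right ?_⟩
    rw [← pl_mul hsurj hcen hp (radical_isPGroup p P) hx (inv_mem hx), mul_inv_cancel]
    exact pl_eq hcen hp (map_one σ) (k := 0) (one_pow _)

theorem map_Kt {S : Set Vec} {e h : Vec} (hS : Good S) (P : Pair S e h) {A : Sp} (hA : A ∈ fixer S)
    (hAe : (A : Mat) *ᵥ e = e) : ∃ k ∈ Kt σ p S e, σ k = A := by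
  have hmem : ∀ v ∈ perp S, f v e = 0 → ∀ c : F, tv v c ∈ (Kt σ p S e).map σ := fun v hv hve c =>
    ⟨_, tl_mem_Kt σ p hv hve c, (tl_spec σ p hsurj hcen hp v c).1⟩
  obtain ⟨w, hw, a, l, hl, rfl⟩ := stab_decomp P hA hAe
  obtain ⟨hw1, hwe, -⟩ := mem_next.1 hw
  have h1 : un e w a ∈ (Kt σ p S e).map σ :=
    mul_mem (mul_mem (hmem _ (add_mem P.he hw1) (by rw [f_add_left, sympForm_self, f_symm_zero hwe, add_zero]) _)
      (hmem _ hw1 (f_symm_zero hwe) _)) (hmem _ P.he (sympForm_self e) _)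
  have h2 : fixer (next S e h) ≤ (Kt σ p S e).map σ := by
    rw [fixer_eq (good_next hS P), Subgroup.closure_le]
    rintro A ⟨v, c, hv, hA⟩
    have e' : A = tv v c := Subtype.ext hA
    rw [e']
    exact hmem v (next_le hv) (f_symm_zero (mem_next.1 hv).2.1) c
  exact mul_mem h1 (h2 hl)

theorem Kt_inj {S : Set Vec} {e h : Vec} (hS : Good S) (P : Pair S e h)
    (ih : ∀ g ∈ lev σ p (next S e h), σ g = 1 → g = 1) {g : E} (hg : g ∈ Kt σ p S e) (h1 : σ g = 1) :
    g = 1 := by
  set N := rad σ p hsurj hcen hp P with hN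
  set H := lev σ p (next S e h) with hH
  have hgood := good_next hS P
  have hnorm : H ≤ Subgroup.normalizer (N : Set E) := by
    intro y hy
    have key : ∀ y ∈ H, ∀ n ∈ N, y * n * y⁻¹ ∈ N := by
      rintro y hy n ⟨x, ⟨w, hw, a, rfl⟩, rfl⟩
      have hyf := lev_mem_fixer σ p hsurj hcen hp hgood hy
      obtain ⟨k, hk⟩ := radical_isPGroup p P ⟨_, w, hw, a, rfl⟩
      rw [pl_conj hsurj hcen hp (show un e w a ^ p ^ k = 1 from congrArg Subtype.val hk), un_conj,
        (next_fixes hyf).1]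
      exact ⟨_, ⟨_, fixer_perp hyf hw, a, rfl⟩, rfl⟩
    rw [Subgroup.mem_normalizer_iff]
    intro n
    refine ⟨key y hy n, fun hn => ?_⟩
    have := key y⁻¹ (inv_mem hy) _ hn
    rwa [show y⁻¹ * (y * n * y⁻¹) * y⁻¹⁻¹ = n by group] at this
  have hle : Kt σ p S e ≤ N ⊔ H := by
    rw [Kt, Subgroup.closure_le]
    rintro _ ⟨v, hv, hve, c, rfl⟩
    set w := proj e h v with hwdef
    have hw : w ∈ perp (next S e h) := proj_mem P hv
    have hwe := (mem_next.1 hw).2.1
    have hveq : v = f v h • e + w := by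
      conv_lhs => rw [proj_add e h v, f_symm_zero hve, zero_smul, add_zero]
      rw [add_comm]
    have hu : un e ((c * f v h) • w) (c * f v h * f v h) ∈ radical P :=
      ⟨_, Submodule.smul_mem _ _ hw, _, rfl⟩
    obtain ⟨k, hk⟩ := radical_isPGroup p P ⟨_, hu⟩
    have hk' := show _ ^ p ^ k = (1 : Sp) from congrArg Subtype.val hk
    have hu1 := pl_spec hsurj hcen hp hk'
    have hcomm : Commute (pl σ p (un e ((c * f v h) • w) (c * f v h * f v h))) (tl σ p w c) := by
      refine pl_commute hsurj hcen hp hk' (tv_pp p w c) (Commute.symm ?_)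
      have := un_conj (tv w c) e ((c * f v h) • w) (c * f v h * f v h)
      rw [tv_mulVec, tv_mulVec, hwe, f_smul_left, sympForm_self] at this
      simp only [mul_zero, zero_smul, add_zero] at this
      exact mul_inv_eq_iff_eq_mul.1 this
    have e1 : tl σ p v c = pl σ p (un e ((c * f v h) • w) (c * f v h * f v h)) * tl σ p w c := by
      refine pl_eq hcen hp (k := k + 1) ?_ ?_
      · rw [map_mul, hu1.1, (tl_spec σ p hsurj hcen hp w c).1]
        conv_rhs => rw [hveq]
        exact (tv_eq_un hwe (f v h) c).symm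
      · rw [hcomm.mul_pow, pow_add, pow_mul, hu1.2, one_pow, one_mul, mul_comm (p ^ k), pow_mul,
          (tl_spec σ p hsurj hcen hp w c).2, one_pow]
    rw [SetLike.mem_coe, e1]
    exact Subgroup.mul_mem_sup ⟨_, hu, rfl⟩ (tl_mem_lev σ p hw c)
  have hg' := hle hg
  rw [← SetLike.mem_coe, Subgroup.coe_mul_of_right_le_normalizer_left N H hnorm, Set.mem_mul] at hg'
  obtain ⟨n, ⟨x, ⟨w, hw, a, rfl⟩, rfl⟩, l, hl, rfl⟩ := hg'
  obtain ⟨k, hk⟩ := radical_isPGroup p P ⟨_, w, hw, a, rfl⟩
  have hk' := show un e w a ^ p ^ k = (1 : Sp) from congrArg Subtype.val hk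
  rw [map_mul, (pl_spec hsurj hcen hp hk').1] at h1
  obtain ⟨rfl, rfl⟩ := un_eq_one P hw (lev_mem_fixer σ p hsurj hcen hp hgood hl) h1
  rw [un_zero, one_mul] at h1
  rw [ih l hl h1, mul_one, un_zero]
  exact pl_eq hcen hp (map_one σ) (k := 0) (one_pow _)

/-- Three pairwise non-orthogonal vectors. -/
theorem triangle [Fintype F] {S : Set Vec} {e h : Vec} (hS : Good S) (P : Pair S e h)
    (ih : ∀ g ∈ lev σ p (next S e h), σ g = 1 → g = 1) {b c : Vec} (hb : b ∈ perp S) (hc : c ∈ perp S)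
    (heb : f e b ≠ 0) (hec : f e c ≠ 0) (hbc : f b c ≠ 0) :
    (tau σ p e c)⁻¹ * tau σ p b c * tau σ p e b ∈ Kt σ p S e := by
  set g := (tau σ p e c)⁻¹ * tau σ p b c * tau σ p e b with hgdef
  have hgS : σ g ∈ fixer S := lev_mem_fixer σ p hsurj hcen hp hS
    (mul_mem (mul_mem (inv_mem (tau_mem_lev σ p P.he hc)) (tau_mem_lev σ p hb hc)) (tau_mem_lev σ p P.he hb))
  have hge : (σ g : Mat) *ᵥ e = e := by
    rw [hgdef, map_mul, map_mul, map_inv, mul_mulVec_sp, mul_mulVec_sp, tau_mulVec σ p hsurj hcen hp heb,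
      tau_mulVec σ p hsurj hcen hp hbc]
    exact inv_mulVec_of_eq (tau_mulVec σ p hsurj hcen hp hec)
  obtain ⟨k, hk, hkg⟩ := map_Kt σ p hsurj hcen hp hS P hgS hge
  suffices hpp : σ g ^ p ^ 1 = 1 ∧ g ^ p ^ 1 = 1 by
    have hk1 : k ^ p ^ 1 = 1 := Kt_inj σ p hsurj hcen hp hS P ih (pow_mem hk _) (by rw [map_pow, hkg, hpp.1])
    rw [lift_unique hcen (coprime_pow hp 1) hkg.symm hpp.2 hk1]
    exact hk
  have e1 : c - b = (c - e) - (b - e) := by abel
  by_cases hD : f (b - e) (c - e) = 0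
  · have hD' : f (c - e) (b - e) = 0 := f_symm_zero hD
    have c1 : Commute (tau σ p b c) (tau σ p e b) := pl_commute hsurj hcen hp (tv_pp p _ _) (tv_pp p _ _)
      (tv_commute (by rw [e1, f_sub_left, hD', sympForm_self, sub_zero]) _ _)
    have c2 : Commute (tau σ p e c) (tau σ p e b) := pl_commute hsurj hcen hp (tv_pp p _ _) (tv_pp p _ _)
      (tv_commute hD' _ _)
    have c3 : Commute (tau σ p e c) (tau σ p b c) := pl_commute hsurj hcen hp (tv_pp p _ _) (tv_pp p _ _)
      (tv_commute (by rw [e1, f_sub_right, hD', sympForm_self, sub_zero]) _ _)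
    have hgp : g ^ p ^ 1 = 1 := by
      rw [hgdef, ((c2.inv_left).mul_left c1).mul_pow, c3.inv_left.mul_pow, inv_pow]
      simp only [tau, (tl_spec σ p hsurj hcen hp _ _).2, inv_one, mul_one]
    exact ⟨by rw [← map_pow, hgp, map_one], hgp⟩
  · have hd1 : b - e ∈ perp S := sub_mem hb P.he
    have hd2 : c - e ∈ perp S := sub_mem hc P.he
    have P1 : Pair S (b - e) ((f (b - e) (c - e))⁻¹ • (c - e)) :=
      ⟨hd1, Submodule.smul_mem _ _ hd2, by rw [f_smul_right, inv_mul_cancel₀ hD]⟩
    set d := b - e with hd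
    set d' := (f (b - e) (c - e))⁻¹ • (c - e) with hd'
    have hmem1 : d ∈ perp (plane S d d') := (plane_pair P1).he
    have hmem2 : c - e ∈ perp (plane S d d') := by
      have : c - e = f (b - e) (c - e) • d' := by rw [hd', smul_smul, mul_inv_cancel₀ hD, one_smul]
      rw [this]
      exact Submodule.smul_mem _ _ (plane_pair P1).hh
    have hgl : g ∈ lev σ p (plane S d d') := by
      refine mul_mem (mul_mem (inv_mem (tl_mem_lev σ p hmem2 _)) (tl_mem_lev σ p ?_ _))
        (tl_mem_lev σ p hmem1 _)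
      rw [e1]
      exact sub_mem hmem2 hmem1
    have hgood := good_plane hS P1
    have hgf := lev_mem_fixer σ p hsurj hcen hp hgood hgl
    set r := proj d d' e with hr
    have hrf : (σ g : Mat) *ᵥ r = r := fixer_fix hgf (Or.inr (proj_mem P1 P.he))
    set a := e - r with ha
    have hamem : a ∈ perp (plane S d d') := by
      have : a = f e d' • d + f d e • d' := by
        rw [ha, hr]
        simp only [proj]
        abel
      rw [this]
      exact add_mem (Submodule.smul_mem _ _ (plane_pair P1).he) (Submodule.smul_mem _ _ (plane_pair P1).hh)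
    have hga : (σ g : Mat) *ᵥ a = a := by rw [ha, Matrix.mulVec_sub, hge, hrf]
    have hane : a ≠ 0 := by
      intro h0
      have h2 : f d a = 0 := by rw [h0, f_zero_right]
      have h3 : f d r = 0 := (mem_next.1 (proj_mem P1 P.he)).2.1
      rw [ha, f_sub_right, h3, sub_zero, hd, f_sub_left, sympForm_self, sub_zero] at h2
      exact heb (f_symm_zero h2)
    obtain ⟨a', ha', haa⟩ := hgood a hamem hane
    have P2 : Pair (plane S d d') a a' := ⟨hamem, ha', haa⟩
    obtain ⟨w, hw, t, l, hl, hdec⟩ := stab_decomp P2 hgf hga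
    have hbot := plane_next_bot hS P1 P2
    have hw0 : w = 0 := by rwa [hbot, Submodule.mem_bot] at hw
    have hl1 : l = 1 := by
      refine sp_ext fun x => ?_
      rw [hl x fun u hu => ?_]
      · exact (one_mulVec x).symm
      · rw [hbot, Submodule.mem_bot] at hu
        rw [hu, f_zero_left]
    rw [hw0, hl1, mul_one] at hdec
    have hsig : σ g ^ p ^ 1 = 1 := by
      rw [hdec, pow_one, un_pow (f_zero_right a), CharP.cast_eq_zero, zero_smul, zero_mul, un_zero]
    refine ⟨hsig, plane_inj σ p hsurj hcen hp hS P1 (pow_mem hgl _) ?_⟩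
    rw [map_pow, hsig]

omit hsurj hcen hp in
theorem coset_eq {S : Set Vec} {e : Vec} {x y : E} (h : x⁻¹ * y ∈ Kt σ p S e) :
    (x : E ⧸ Kt σ p S e) = (y : E ⧸ Kt σ p S e) :=
  QuotientGroup.eq.2 h

/-- The lifted level meets the kernel trivially. -/
theorem lev_inj [Fintype F] {S : Set Vec} (hS : Good S) : ∀ g ∈ lev σ p S, σ g = 1 → g = 1 := by
  classical
  refine induct (C := fun S => ∀ g ∈ lev σ p S, σ g = 1 → g = 1) ?_ ?_ hS
  · intro S _ hb g hg _
    have hbot : lev σ p S = ⊥ := by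
      rw [lev, Subgroup.closure_eq_bot_iff]
      rintro _ ⟨v, hv, c, rfl⟩
      rw [hb, Submodule.mem_bot] at hv
      refine pl_eq hcen hp ?_ (k := 0) (one_pow _)
      rw [map_one, hv, show (tv (0 : Vec) c : Sp) = 1 from sp_ext fun x => by
        rw [tv_mulVec, f_zero_right, mul_zero, zero_smul, add_zero]; exact (one_mulVec x).symm]
    rw [hbot, Subgroup.mem_bot] at hg
    exact hg
  intro S e h hS P ih
  let K := Kt σ p S e
  let T : Vec → Vec → E := tau σ p
  have htri : ∀ {b c : Vec}, b ∈ perp S → c ∈ perp S → f e b ≠ 0 → f e c ≠ 0 → f b c ≠ 0 →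
      ((T b c * T e b : E) : E ⧸ K) = (T e c : E ⧸ K) := fun {b c} hb hc h1 h2 h3 => by
    refine (coset_eq σ p ?_).symm
    rw [← mul_assoc]
    exact triangle σ p hsurj hcen hp hS P ih hb hc h1 h2 h3
  have hTperp : ∀ {a b v : Vec}, a ∈ perp S → b ∈ perp S → v ∈ perp S →
      (σ (T a b) : Mat) *ᵥ v ∈ perp S := fun ha hb hv =>
    fixer_perp (lev_mem_fixer σ p hsurj hcen hp hS (tau_mem_lev σ p ha hb)) hv
  have hTv : ∀ {a b : Vec}, f a b ≠ 0 → (σ (T a b) : Mat) *ᵥ a = b := fun hab =>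
    tau_mulVec σ p hsurj hcen hp hab
  -- the value through a middle vector
  let val : Vec → Vec → E ⧸ K := fun z w => ((T z w * T e z : E) : E ⧸ K)
  have hadj : ∀ {z z' w : Vec}, z ∈ perp S → z' ∈ perp S → w ∈ perp S → f e z ≠ 0 → f z w ≠ 0 →
      f e z' ≠ 0 → f z' w ≠ 0 → f z z' ≠ 0 → val z w = val z' w := by
    intro z z' w hz hz' hw h1 h2 h3 h4 h5
    have hg : (σ (T e z) : Mat) *ᵥ e = z := hTv h1
    set a' := ((σ (T e z))⁻¹ : Sp).1 *ᵥ z' with ha'
    set w' := ((σ (T e z))⁻¹ : Sp).1 *ᵥ w with hw'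
    have hga : (σ (T e z) : Mat) *ᵥ a' = z' := by
      rw [ha', ← mul_mulVec_sp, mul_inv_cancel]; exact one_mulVec z'
    have hgw : (σ (T e z) : Mat) *ᵥ w' = w := by
      rw [hw', ← mul_mulVec_sp, mul_inv_cancel]; exact one_mulVec w
    have hinv : σ (T e z) ∈ fixer S := lev_mem_fixer σ p hsurj hcen hp hS (tau_mem_lev σ p P.he hz)
    have q1 : f e a' ≠ 0 := by rw [← sympForm_mulVec (σ (T e z)), hg, hga]; exact h5
    have q2 : f a' w' ≠ 0 := by rw [← sympForm_mulVec (σ (T e z)), hga, hgw]; exact h4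
    have q3 : f e w' ≠ 0 := by rw [← sympForm_mulVec (σ (T e z)), hg, hgw]; exact h2
    have conjT : ∀ a b, T ((σ (T e z) : Mat) *ᵥ a) ((σ (T e z) : Mat) *ᵥ b) * T e z = T e z * T a b := by
      intro a b
      show tau σ p _ _ * _ = _
      rw [← tau_conj σ p hsurj hcen hp, inv_mul_cancel_right]
    calc val z w = ((T z w * T e z : E) : E ⧸ K) := rfl
      _ = T e z • (T e w' : E ⧸ K) := by
        rw [← hgw]
        nth_rw 1 [← hg]
        rw [conjT]; rfl
      _ = T e z • ((T a' w' * T e a' : E) : E ⧸ K) := by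
        rw [htri (fixer_perp (inv_mem hinv) hz') (fixer_perp (inv_mem hinv) hw) q1 q3 q2]
      _ = ((T z' w * (T z z' * T e z) : E) : E ⧸ K) := by
        have k1 := conjT a' w'
        have k2 := conjT e a'
        rw [hga, hgw] at k1
        rw [hg, hga] at k2
        rw [MulAction.Quotient.smul_coe, smul_eq_mul, ← mul_assoc, ← k1, mul_assoc, ← k2]
      _ = T z' w • ((T z z' * T e z : E) : E ⧸ K) := rfl
      _ = val z' w := by rw [htri hz hz' h1 h3 h5]; rfl
  have hindep : ∀ {z z' w : Vec}, z ∈ perp S → z' ∈ perp S → w ∈ perp S → f e z ≠ 0 → f z w ≠ 0 →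
      f e z' ≠ 0 → f z' w ≠ 0 → val z w = val z' w := by
    intro z z' w hz hz' hw h1 h2 h3 h4
    by_cases hew : f e w = 0
    · by_cases h5 : f z z' = 0
      · have hx : e + z ∈ perp S := add_mem P.he hz
        rw [hadj hz hx hw h1 h2 (by rw [f_add_right, sympForm_self, zero_add]; exact h1)
            (by rw [f_add_left, hew, zero_add]; exact h2)
            (by rw [f_add_right, sympForm_self, add_zero]; exact f_symm_ne h1),
          hadj hx hz' hw (by rw [f_add_right, sympForm_self, zero_add]; exact h1)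
            (by rw [f_add_left, hew, zero_add]; exact h2) h3 h4
            (by rw [f_add_left, h5, add_zero]; exact h3)]
      · exact hadj hz hz' hw h1 h2 h3 h4 h5
    · exact (htri hz hw h1 hew h2).trans (htri hz' hw h3 hew h4).symm
  have hexz : ∀ w ∈ perp S, w ≠ 0 → f e w = 0 → ∃ z ∈ perp S, f e z ≠ 0 ∧ f z w ≠ 0 := by
    intro w hw hwne hew
    obtain ⟨w', hw', hww⟩ := hS w hw hwne
    by_cases h1 : f h w = 0
    · by_cases h2 : f e w' = 0
      · refine ⟨h + w', add_mem P.hh hw', by rw [f_add_right, P.heh, h2, add_zero]; exact one_ne_zero, ?_⟩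
        rw [f_add_left, h1, zero_add, sympForm_swap w w', hww]
        exact neg_ne_zero.2 one_ne_zero
      · exact ⟨w', hw', h2, f_symm_ne (by rw [hww]; exact one_ne_zero)⟩
    · exact ⟨h, P.hh, by rw [P.heh]; exact one_ne_zero, h1⟩
  let C : Vec → E ⧸ K := fun w =>
    if f e w = 0 then
      if hz : ∃ z ∈ perp S, f e z ≠ 0 ∧ f z w ≠ 0 then val hz.choose w else ((1 : E) : E ⧸ K)
    else (T e w : E ⧸ K)
  have hC : ∀ {z w : Vec}, z ∈ perp S → w ∈ perp S → f e z ≠ 0 → f z w ≠ 0 → C w = val z w := by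
    intro z w hz hw h1 h2
    simp only [C]
    by_cases hew : f e w = 0
    · have hex : ∃ z ∈ perp S, f e z ≠ 0 ∧ f z w ≠ 0 := ⟨z, hz, h1, h2⟩
      rw [if_pos hew, dif_pos hex]
      obtain ⟨a1, a2, a3⟩ := hex.choose_spec
      exact hindep a1 hz hw a2 a3 h1 h2
    · rw [if_neg hew]
      exact (htri hz hw h1 hew h2).symm
  have hC' : ∀ {w : Vec}, f e w ≠ 0 → C w = (T e w : E ⧸ K) := fun hew => by simp only [C, if_neg hew]
  have hCe : C e = ((1 : E) : E ⧸ K) := by
    rw [hC P.hh P.he (by rw [P.heh]; exact one_ne_zero) (by rw [P.hhe]; exact neg_ne_zero.2 one_ne_zero)]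
    show ((T h e * T e h : E) : E ⧸ K) = _
    rw [show T h e = (T e h)⁻¹ from tau_swap σ p hsurj hcen hp e h, inv_mul_cancel]
  have hgen : ∀ v ∈ perp S, ∀ c : F, ∀ w ∈ perp S, w ≠ 0 →
      tl σ p v c • C w = C ((σ (tl σ p v c) : Mat) *ᵥ w) := by
    intro v hv c w hw hwne
    set g := tl σ p v c with hgdef
    have hσ : σ g = tv v c := (tl_spec σ p hsurj hcen hp v c).1
    have hgf : σ g ∈ fixer S := hσ ▸ tv_mem_fixer hv c
    set x := (σ g : Mat) with hx
    have hxw : x *ᵥ w ∈ perp S := fixer_perp hgf hw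
    have conjT : ∀ a b, g * T a b = T (x *ᵥ a) (x *ᵥ b) * g := fun a b =>
      mul_inv_eq_iff_eq_mul.1 (tau_conj σ p hsurj hcen hp g a b)
    by_cases hve : f v e = 0
    · have hxe : x *ᵥ e = e := by rw [hx, hσ, tv_mulVec, f_symm_zero hve, mul_zero, zero_smul, add_zero]
      have hgK : g ∈ K := tl_mem_Kt σ p hv hve c
      have habs : ∀ y : E, ((y * g : E) : E ⧸ K) = (y : E ⧸ K) := fun y => coset_eq σ p (by
        rw [_root_.mul_inv_rev, mul_assoc, inv_mul_cancel, mul_one]; exact inv_mem hgK)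
      by_cases hew : f e w = 0
      · obtain ⟨z, hz, h1, h2⟩ := hexz w hw hwne hew
        rw [hC hz hw h1 h2, hC (fixer_perp hgf hz) hxw
          (by rw [← hxe, hx, sympForm_mulVec]; exact h1) (by rw [hx, sympForm_mulVec]; exact h2)]
        show ((g * (T z w * T e z) : E) : E ⧸ K) = _
        rw [← mul_assoc, conjT, mul_assoc, conjT, hxe, ← mul_assoc, habs]
      · rw [hC' hew, hC' (by rw [← hxe, hx, sympForm_mulVec]; exact hew)]
        show ((g * T e w : E) : E ⧸ K) = _
        rw [conjT, hxe, habs]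
    by_cases hc : c = 0
    · have hg1 : g = 1 := by
        refine pl_eq hcen hp ?_ (k := 0) (one_pow _)
        rw [map_one, hc, tv_zero]
      rw [hx, hg1, one_smul, map_one]
      congr 1
      exact (one_mulVec w).symm
    set u := x *ᵥ e with hu
    have hu' : u = e + (c * f e v) • v := by rw [hu, hx, hσ, tv_mulVec]
    have hev : f e v ≠ 0 := f_symm_ne hve
    have heu : f e u ≠ 0 := by
      rw [hu', f_add_right, sympForm_self, f_smul_right, zero_add]
      exact mul_ne_zero (mul_ne_zero hc hev) hev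
    have humem : u ∈ perp S := fixer_perp hgf P.he
    have hgT : g = T e u := by
      show _ = tau σ p e u
      have : (tv v c : Sp) = tv (u - e) (f e u)⁻¹ := by
        rw [hu', add_sub_cancel_left, tv_smul, f_add_right, sympForm_self, f_smul_right, zero_add]
        congr 1
        field_simp
      rw [hgdef, tau, tl, tl, this]
    by_cases hew : f e w = 0
    · obtain ⟨z, hz, h1, h2, h3⟩ : ∃ z ∈ perp S, f e z ≠ 0 ∧ f z w ≠ 0 ∧ f e (x *ᵥ z) ≠ 0 := by
        by_cases hvw : f v w = 0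
        · have P' : Pair S e ((f e v)⁻¹ • v) :=
            ⟨P.he, Submodule.smul_mem _ _ hv, by rw [f_smul_right, inv_mul_cancel₀ hev]⟩
          have hwn : w ∈ perp (next S e ((f e v)⁻¹ • v)) :=
            mem_next.2 ⟨hw, hew, by rw [f_smul_left, hvw, mul_zero]⟩
          obtain ⟨z0, hz0, hwz⟩ := good_next hS P' w hwn hwne
          obtain ⟨hz01, hz0e, hz0v⟩ := mem_next.1 hz0
          rw [f_smul_left, mul_eq_zero, inv_eq_zero] at hz0v
          have hz0v' := hz0v.resolve_left hev
          refine ⟨z0 + (f e v)⁻¹ • v, add_mem hz01 (Submodule.smul_mem _ _ hv), ?_, ?_, ?_⟩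
          · rw [f_add_right, hz0e, f_smul_right, inv_mul_cancel₀ hev, zero_add]
            exact one_ne_zero
          · rw [f_add_left, f_smul_left, hvw, mul_zero, add_zero]
            exact f_symm_ne (by rw [hwz]; exact one_ne_zero)
          · rw [hx, hσ, tv_mulVec, f_add_left, f_smul_left, sympForm_self, f_symm_zero hz0v']
            simp only [mul_zero, add_zero, zero_smul, f_add_right, hz0e, f_smul_right, zero_add,
              inv_mul_cancel₀ hev]
            exact one_ne_zero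
        · refine ⟨v, hv, hev, hvw, ?_⟩
          rw [hx, hσ, tv_mulVec, sympForm_self, mul_zero, zero_smul, add_zero]
          exact hev
      rw [hC hz hw h1 h2, hC (fixer_perp hgf hz) hxw h3 (by rw [hx, sympForm_mulVec]; exact h2)]
      show ((g * (T z w * T e z) : E) : E ⧸ K) = _
      rw [← mul_assoc, conjT, mul_assoc, conjT, ← hu]
      conv_lhs => rw [hgT]
      show T (x *ᵥ z) (x *ᵥ w) • ((T u (x *ᵥ z) * T e u : E) : E ⧸ K) = _
      rw [htri humem (fixer_perp hgf hz) heu h3 (by rw [hu, hx, sympForm_mulVec]; exact h1)]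
      rfl
    · rw [hC' hew, hC humem hxw heu (by rw [hu, hx, sympForm_mulVec]; exact hew)]
      show ((g * T e w : E) : E ⧸ K) = _
      rw [conjT, ← hu, hgT]
  have hall : ∀ g ∈ lev σ p S, ∀ w ∈ perp S, w ≠ 0 → g • C w = C ((σ g : Mat) *ᵥ w) := by
    intro g hg
    induction hg using Subgroup.closure_induction with
    | mem y hy =>
      obtain ⟨v, hv, c, rfl⟩ := hy
      exact hgen v hv c
    | one =>
      intro w _ _
      rw [one_smul, map_one]
      congr 1
      exact (one_mulVec w).symm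
    | mul a b ha hb iha ihb =>
      intro w hw hwne
      have hbf := lev_mem_fixer σ p hsurj hcen hp hS hb
      have hne : (σ b : Mat) *ᵥ w ≠ 0 := fun h0 => hwne (by
        have := inv_mulVec_of_eq h0
        rwa [Matrix.mulVec_zero, eq_comm] at this)
      rw [mul_smul, ihb w hw hwne, iha _ (fixer_perp hbf hw) hne, map_mul, mul_mulVec_sp]
    | inv a ha iha =>
      intro w hw hwne
      have haf := inv_mem (lev_mem_fixer σ p hsurj hcen hp hS ha)
      have hne : ((σ a)⁻¹ : Sp).1 *ᵥ w ≠ 0 := fun h0 => hwne (by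
        have := inv_mulVec_of_eq h0
        rw [inv_inv, Matrix.mulVec_zero] at this
        exact this.symm)
      rw [inv_smul_eq_iff, map_inv, iha _ (fixer_perp haf hw) hne, ← mul_mulVec_sp, mul_inv_cancel]
      congr 1
      exact (one_mulVec w).symm
  intro g hg h1
  have hgK : g ∈ K := by
    have := hall g hg e P.he P.e_ne
    rw [h1, hCe] at this
    have h2 : ((g : E) : E ⧸ K) = ((1 : E) : E ⧸ K) := by
      have h3 : ((g * 1 : E) : E ⧸ K) = C ((1 : Sp).1 *ᵥ e) := this
      rw [mul_one] at h3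
      rw [h3, show ((1 : Sp).1 : Mat) *ᵥ e = e from one_mulVec e, hCe]
    rw [QuotientGroup.eq, mul_one] at h2
    simpa using inv_mem h2
  exact Kt_inj σ p hsurj hcen hp hS P ih hgK h1

/-- Kernel elements of the derived group vanish. -/
theorem main [Fintype F] {z : E} (hz : z ∈ σ.ker) (hd : z ∈ commutator E) : z = 1 := by
  refine lev_inj σ p hsurj hcen hp good_empty z ?_ hz
  suffices hle : commutator E ≤ lev σ p ∅ from hle hd
  rw [_root_.commutator_def, Subgroup.commutator_le]
  intro a _ b _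
  have key : ∀ g : E, ∃ y ∈ lev σ p ∅, σ g = σ y := fun g => by
    have : σ g ∈ (lev σ p ∅).map σ := by
      rw [map_lev σ p hsurj hcen hp good_empty]
      exact mem_fixer_empty _
    obtain ⟨y, hy, e⟩ := this
    exact ⟨y, hy, e.symm⟩
  obtain ⟨y, hy, e1⟩ := key a
  obtain ⟨y', hy', e2⟩ := key b
  rw [bracket_congr hcen e1 e2]
  exact mul_mem (mul_mem (mul_mem hy hy') (inv_mem hy)) (inv_mem hy')

end Cfsg.Agent.SimpleFacts.SpMult.Coprime
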