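import Cfsg.Agent.Lib.Classical.Symplectic
import Mathlib

/-!
Nested non-degenerate subspaces of a symplectic space given as the orthogonal of a set, their groups of
isometries, and the point stabiliser in such a group.
-/

set_option autoImplicit false
set_option linter.unusedSectionVars false
set_option linter.unusedSimpArgs false

namespace Cfsg.Agent.SimpleFacts.SpMult.Levels

open Matrix
open Cfsg.Agent.Forms.SympStd Cfsg.Agent.Classical.Symplectic

universe u

variable {F : Type u} [Field F] {m : ℕ}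

local notation "Vec" => (Fin m ⊕ Fin m → F)
local notation "Mat" => Matrix (Fin m ⊕ Fin m) (Fin m ⊕ Fin m) F
local notation "Sp" => symplecticGroup (Fin m) F
local notation "f" => Cfsg.sympForm m F

theorem f_neg_left (x y : Vec) : f (-x) y = - f x y := by
  rw [← sympB_apply, map_neg, LinearMap.neg_apply, sympB_apply]

theorem f_neg_right (x y : Vec) : f x (-y) = - f x y := by
  rw [← sympB_apply, map_neg, sympB_apply]

theorem f_sub_left (x y z : Vec) : f (x - y) z = f x z - f y z := by
  rw [sub_eq_add_neg, f_add_left, f_neg_left, sub_eq_add_neg]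

theorem f_sub_right (x y z : Vec) : f x (y - z) = f x y - f x z := by
  rw [sub_eq_add_neg, f_add_right, f_neg_right, sub_eq_add_neg]

theorem f_zero_left (x : Vec) : f 0 x = 0 := by
  rw [← sympB_apply, map_zero, LinearMap.zero_apply]

theorem f_zero_right (x : Vec) : f x 0 = 0 := by rw [← sympB_apply, map_zero]

theorem f_symm_zero {x y : Vec} (h : f x y = 0) : f y x = 0 := by rw [sympForm_swap, h, neg_zero]

theorem f_symm_ne {x y : Vec} (h : f x y ≠ 0) : f y x ≠ 0 := fun h' => h (f_symm_zero h')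

/-- The orthogonal of a set. -/
def perp (S : Set Vec) : Submodule F Vec where
  carrier := {v | ∀ s ∈ S, f s v = 0}
  zero_mem' s _ := f_zero_right s
  add_mem' ha hb s hs := by rw [f_add_right, ha s hs, hb s hs, add_zero]
  smul_mem' a _ hx s hs := by rw [f_smul_right, hx s hs, mul_zero]

theorem mem_perp {S : Set Vec} {v : Vec} : v ∈ perp S ↔ ∀ s ∈ S, f s v = 0 := Iff.rfl

theorem mem_perp_empty (v : Vec) : v ∈ perp (∅ : Set Vec) := fun s hs => absurd hs (Set.notMem_empty s)

/-- The orthogonal of `S` is non-degenerate. -/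
def Good (S : Set Vec) : Prop := ∀ v ∈ perp S, v ≠ 0 → ∃ w ∈ perp S, f v w = 1

theorem good_empty : Good (∅ : Set Vec) := fun v _ hv => by
  obtain ⟨w, hw⟩ := exists_partner hv
  exact ⟨w, mem_perp_empty w, hw⟩

/-- A hyperbolic pair in the orthogonal of `S`. -/
structure Pair (S : Set Vec) (e h : Vec) : Prop where
  he : e ∈ perp S
  hh : h ∈ perp S
  heh : f e h = 1

theorem Pair.e_ne {S : Set Vec} {e h : Vec} (P : Pair S e h) : e ≠ 0 := fun he => by
  have := P.heh
  rw [he, f_zero_left] at this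
  exact zero_ne_one this

theorem Pair.hhe {S : Set Vec} {e h : Vec} (P : Pair S e h) : f h e = -1 := by
  rw [sympForm_swap, P.heh]

/-- The next level. -/
def next (S : Set Vec) (e h : Vec) : Set Vec := S ∪ {e, h}

theorem mem_next {S : Set Vec} {e h v : Vec} :
    v ∈ perp (next S e h) ↔ v ∈ perp S ∧ f e v = 0 ∧ f h v = 0 := by
  constructor
  · intro hv
    exact ⟨fun s hs => hv s (Or.inl hs), hv e (Or.inr (Or.inl rfl)), hv h (Or.inr (Or.inr rfl))⟩
  · rintro ⟨h1, h2, h3⟩ s (hs | rfl | rfl)
    exacts [h1 s hs, h2, h3]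

theorem next_le {S : Set Vec} {e h v : Vec} (hv : v ∈ perp (next S e h)) : v ∈ perp S :=
  (mem_next.1 hv).1

/-- The projection onto the next level. -/
def proj (e h u : Vec) : Vec := u - f u h • e - f e u • h

theorem proj_mem {S : Set Vec} {e h u : Vec} (P : Pair S e h) (hu : u ∈ perp S) :
    proj e h u ∈ perp (next S e h) := by
  refine mem_next.2 ⟨sub_mem (sub_mem hu (Submodule.smul_mem _ _ P.he)) (Submodule.smul_mem _ _ P.hh),
    ?_, ?_⟩
  · simp only [proj, f_sub_right, f_smul_right, sympForm_self, P.heh]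
    ring
  · simp only [proj, f_sub_right, f_smul_right, sympForm_self, P.hhe]
    rw [sympForm_swap u h]
    ring

theorem proj_add (e h u : Vec) : u = proj e h u + f u h • e + f e u • h := by
  simp only [proj]
  abel

theorem good_next {S : Set Vec} {e h : Vec} (hS : Good S) (P : Pair S e h) : Good (next S e h) := by
  intro v hv hne
  obtain ⟨hv1, hve, hvh⟩ := mem_next.1 hv
  obtain ⟨w, hw, hvw⟩ := hS v hv1 hne
  refine ⟨proj e h w, proj_mem P hw, ?_⟩
  simp only [proj, f_sub_right, f_smul_right, hvw]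
  rw [f_symm_zero hve, f_symm_zero hvh]
  ring

theorem next_lt {S : Set Vec} {e h : Vec} (P : Pair S e h) :
    perp (next S e h) < perp S := by
  refine lt_of_le_of_ne (fun v hv => next_le hv) fun heq => ?_
  have he : e ∈ perp (next S e h) := heq ▸ P.he
  have := (mem_next.1 he).2.2
  rw [P.hhe, neg_eq_zero] at this
  exact one_ne_zero this

theorem exists_pair {S : Set Vec} (hS : Good S) (h : perp S ≠ ⊥) : ∃ e e', Pair S e e' := by
  obtain ⟨e, he, hne⟩ := Submodule.exists_mem_ne_zero_of_ne_bot h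
  obtain ⟨e', he', hee⟩ := hS e he hne
  exact ⟨e, e', he, he', hee⟩

/-- Induction over the levels. -/
theorem induct {C : Set Vec → Prop} (h0 : ∀ S, Good S → perp S = ⊥ → C S)
    (hstep : ∀ S e h, Good S → Pair S e h → C (next S e h) → C S) {S : Set Vec} (hS : Good S) : C S := by
  suffices key : ∀ (n : ℕ) (S : Set Vec), Module.finrank F (perp S) ≤ n → Good S → C S from
    key _ S le_rfl hS
  intro n
  induction n with
  | zero =>
    intro S hn hS
    exact h0 S hS (Submodule.finrank_eq_zero.1 (by omega))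
  | succ n ih =>
    intro S hn hS
    by_cases hb : perp S = ⊥
    · exact h0 S hS hb
    obtain ⟨e, h, P⟩ := exists_pair hS hb
    refine hstep S e h hS P (ih _ ?_ (good_next hS P))
    have := Submodule.finrank_lt_finrank_of_lt (next_lt P)
    omega

/-- The isometries fixing the orthogonal of `perp S` point by point. -/
def fixer (S : Set Vec) : Subgroup Sp where
  carrier := {A | ∀ x : Vec, (∀ u ∈ perp S, f u x = 0) → (A : Mat) *ᵥ x = x}
  one_mem' x _ := one_mulVec x
  mul_mem' {A B} hA hB x hx := by rw [mul_mulVec_sp, hB x hx, hA x hx]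
  inv_mem' {A} hA x hx := inv_mulVec_of_eq (hA x hx)

theorem mem_fixer_empty (A : Sp) : A ∈ fixer (∅ : Set Vec) := by
  intro x hx
  have : x = 0 := by
    by_contra hne
    obtain ⟨w, hw⟩ := exists_partner hne
    rw [f_symm_zero (hx w (mem_perp_empty w))] at hw
    exact zero_ne_one hw
  rw [this, Matrix.mulVec_zero]

theorem tv_mem_fixer {S : Set Vec} {v : Vec} (hv : v ∈ perp S) (c : F) : tv v c ∈ fixer S := by
  intro x hx
  rw [tv_mulVec, f_symm_zero (hx v hv), mul_zero, zero_smul, add_zero]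

theorem fixer_fix {S : Set Vec} {A : Sp} (hA : A ∈ fixer S) {s : Vec} (hs : s ∈ S) :
    (A : Mat) *ᵥ s = s :=
  hA s fun _ hu => f_symm_zero (hu s hs)

theorem fixer_perp {S : Set Vec} {A : Sp} (hA : A ∈ fixer S) {v : Vec} (hv : v ∈ perp S) :
    (A : Mat) *ᵥ v ∈ perp S := fun s hs => by
  rw [← fixer_fix hA hs, sympForm_mulVec, hv s hs]

theorem closure_le_fixer (S : Set Vec) : Subgroup.closure (tvSet S) ≤ fixer S := by
  rw [Subgroup.closure_le]
  rintro A ⟨w, c, hw, hA⟩
  have e : A = tv w c := Subtype.ext hA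
  rw [e]
  exact tv_mem_fixer hw c

theorem move {S : Set Vec} {e h e' h' : Vec} (P : Pair S e h) (P' : Pair S e' h') :
    ∃ A ∈ fixer S, (A : Mat) *ᵥ e = e' ∧ (A : Mat) *ᵥ h = h' := by
  obtain ⟨A, hA, h1, h2⟩ := exists_move_pair (S := S) P.he P.hh P'.he P'.hh P.heh P'.heh
  exact ⟨A, closure_le_fixer S hA, h1, h2⟩

theorem move_vec {S : Set Vec} (hS : Good S) {v v' : Vec} (hv : v ∈ perp S) (hne : v ≠ 0)
    (hv' : v' ∈ perp S) (hne' : v' ≠ 0) : ∃ A ∈ fixer S, (A : Mat) *ᵥ v = v' := by
  obtain ⟨w, hw, e⟩ := hS v hv hne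
  obtain ⟨w', hw', e'⟩ := hS v' hv' hne'
  obtain ⟨A, hA, h1, -⟩ := move ⟨hv, hw, e⟩ ⟨hv', hw', e'⟩
  exact ⟨A, hA, h1⟩

theorem next_fixer_le {S : Set Vec} {e h : Vec} : fixer (next S e h) ≤ fixer S :=
  fun _ hA x hx => hA x fun u hu => hx u (next_le hu)

theorem next_fixes {S : Set Vec} {e h : Vec} {A : Sp} (hA : A ∈ fixer (next S e h)) :
    (A : Mat) *ᵥ e = e ∧ (A : Mat) *ᵥ h = h :=
  ⟨fixer_fix hA (Or.inr (Or.inl rfl)), fixer_fix hA (Or.inr (Or.inr rfl))⟩

theorem mem_next_fixer {S : Set Vec} {e h : Vec} (P : Pair S e h) {A : Sp} (hA : A ∈ fixer S)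
    (h1 : (A : Mat) *ᵥ e = e) (h2 : (A : Mat) *ᵥ h = h) : A ∈ fixer (next S e h) := by
  intro x hx
  have hx' : ∀ u ∈ perp S, f u (x - f x h • e - f e x • h) = 0 := by
    intro u hu
    have a1 := hx _ (proj_mem P hu)
    obtain ⟨-, pe, ph⟩ := mem_next.1 (proj_mem P hu)
    have b1 : f (proj e h u) (x - f x h • e - f e x • h) = 0 := by
      simp only [f_sub_right, f_smul_right, a1, f_symm_zero pe, f_symm_zero ph]
      ring
    have b2 : f e (x - f x h • e - f e x • h) = 0 := by
      simp only [f_sub_right, f_smul_right, sympForm_self, P.heh]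
      ring
    have b3 : f h (x - f x h • e - f e x • h) = 0 := by
      simp only [f_sub_right, f_smul_right, sympForm_self, P.hhe, sympForm_swap x h]
      ring
    conv_lhs => rw [proj_add e h u]
    rw [f_add_left, f_add_left, f_smul_left, f_smul_left, b1, b2, b3]
    ring
  have := hA _ hx'
  rw [Matrix.mulVec_sub, Matrix.mulVec_sub, Matrix.mulVec_smul, Matrix.mulVec_smul, h1, h2] at this
  simpa using this

/-- The fixers are generated by transvections. -/
theorem fixer_eq {S : Set Vec} (hS : Good S) : fixer S = Subgroup.closure (tvSet S) := by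
  refine le_antisymm ?_ (closure_le_fixer S)
  revert hS
  suffices key : ∀ S : Set Vec, Good S → fixer S ≤ Subgroup.closure (tvSet S) from key S
  intro S hS
  refine induct (C := fun S => fixer S ≤ Subgroup.closure (tvSet S)) ?_ ?_ hS
  · intro S _ hb A hA
    have : A = 1 := sp_ext fun v => by
      rw [hA v fun u hu => by
        rw [hb, Submodule.mem_bot] at hu
        rw [hu, f_zero_left]]
      exact (one_mulVec v).symm
    rw [this]
    exact one_mem _
  · intro S e h _ P ih A hA
    obtain ⟨T, hT, h1, h2⟩ := exists_move_pair (S := S) (fixer_perp hA P.he) (fixer_perp hA P.hh) P.he P.hh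
      (by rw [sympForm_mulVec, P.heh]) P.heh
    have hTA : T * A ∈ fixer (next S e h) := mem_next_fixer P (mul_mem (closure_le_fixer S hT) hA)
      (by rw [mul_mulVec_sp, h1]) (by rw [mul_mulVec_sp, h2])
    have := mul_mem (inv_mem hT) (Subgroup.closure_mono (tvSet_mono Set.subset_union_left) (ih hTA))
    rwa [inv_mul_cancel_left] at this

/-! ### The unipotent radical of the stabiliser of a vector -/

/-- The elements of the radical. -/
def un (e w : Vec) (a : F) : Sp := tv (e + w) 1 * tv w (-1) * tv e (a - 1)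

theorem un_mulVec {e w : Vec} (hw : f e w = 0) (a : F) (x : Vec) :
    (un e w a : Mat) *ᵥ x = x + f x e • w + f x w • e + (a * f x e) • e := by
  simp only [un, mul_mulVec_sp, tv_mulVec, f_add_left, f_add_right, f_smul_left, f_smul_right,
    sympForm_self, hw, f_symm_zero hw]
  module

theorem un_mul {e w w' : Vec} (hw : f e w = 0) (hw' : f e w' = 0) (a a' : F) :
    un e w a * un e w' a' = un e (w + w') (a + a' + f w' w) := by
  have hww : f e (w + w') = 0 := by rw [f_add_right, hw, hw', add_zero]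
  refine sp_ext fun x => ?_
  simp only [mul_mulVec_sp, un_mulVec hw, un_mulVec hw', un_mulVec hww, f_add_left, f_add_right,
    f_smul_left, f_smul_right, sympForm_self, hw, hw', f_symm_zero hw, f_symm_zero hw']
  module

theorem un_zero (e : Vec) : un e 0 (0 : F) = 1 := by
  refine sp_ext fun x => ?_
  rw [un_mulVec (f_zero_right e), f_zero_right]
  show _ = (1 : Mat) *ᵥ x
  rw [one_mulVec]
  simp

theorem un_mem_fixer {S : Set Vec} {e w : Vec} (he : e ∈ perp S) (hw : w ∈ perp S) (a : F) :
    un e w a ∈ fixer S :=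
  mul_mem (mul_mem (tv_mem_fixer (add_mem he hw) _) (tv_mem_fixer hw _)) (tv_mem_fixer he _)

theorem un_fix_e {e w : Vec} (hw : f e w = 0) (a : F) : (un e w a : Mat) *ᵥ e = e := by
  rw [un_mulVec hw, sympForm_self, hw]
  simp

theorem un_h {S : Set Vec} {e h w : Vec} (P : Pair S e h) (hw : w ∈ perp (next S e h)) (a : F) :
    (un e w a : Mat) *ᵥ h = h - w - a • e := by
  obtain ⟨-, hwe, hwh⟩ := mem_next.1 hw
  rw [un_mulVec hwe, hwh, P.hhe]
  module

theorem un_conj (A : Sp) (e w : Vec) (a : F) :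
    A * un e w a * A⁻¹ = un ((A : Mat) *ᵥ e) ((A : Mat) *ᵥ w) a := by
  simp only [un, ← Matrix.mulVec_add, ← tv_conj]
  group

/-- The stabiliser of `e` in a level is the radical times the next level. -/
theorem stab_decomp {S : Set Vec} {e h : Vec} (P : Pair S e h) {A : Sp} (hA : A ∈ fixer S)
    (hAe : (A : Mat) *ᵥ e = e) :
    ∃ w ∈ perp (next S e h), ∃ a : F, ∃ l ∈ fixer (next S e h), A = un e w a * l := by
  set r := (A : Mat) *ᵥ h - h with hr
  have hrS : r ∈ perp S := sub_mem (fixer_perp hA P.hh) P.hh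
  have h1 : f e r = 0 := by
    rw [hr, f_sub_right, P.heh]
    conv_lhs => arg 1; rw [← hAe]
    rw [sympForm_mulVec, P.heh, sub_self]
  have hw : -proj e h r ∈ perp (next S e h) := neg_mem (proj_mem P hrS)
  refine ⟨_, hw, -f r h, (un e (-proj e h r) (-f r h))⁻¹ * A, ?_, (mul_inv_cancel_left _ _).symm⟩
  have hfe := (mem_next.1 hw).2.1
  refine mem_next_fixer P (mul_mem (inv_mem (un_mem_fixer P.he (next_le hw) _)) hA) ?_ ?_
  · rw [mul_mulVec_sp, hAe]
    exact inv_mulVec_of_eq (un_fix_e hfe _)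
  · rw [mul_mulVec_sp]
    refine inv_mulVec_of_eq ?_
    rw [un_h P hw, show (A : Mat) *ᵥ h = h + r by rw [hr]; abel]
    conv_rhs => rw [proj_add e h r, h1, zero_smul, add_zero]
    module

/-- Radical and next level are independent. -/
theorem un_eq_one {S : Set Vec} {e h w : Vec} (P : Pair S e h) (hw : w ∈ perp (next S e h)) {a : F}
    {l : Sp} (hl : l ∈ fixer (next S e h)) (h1 : un e w a * l = 1) : w = 0 ∧ a = 0 := by
  have h2 : h - w - a • e = h := by
    have := congrArg (fun B : Sp => (B : Mat) *ᵥ h) h1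
    simp only [mul_mulVec_sp, (next_fixes hl).2, un_h P hw] at this
    rw [this]
    exact one_mulVec h
  have h3 : w + a • e = 0 := by
    have h4 := congrArg (fun v => h - v) h2
    simp only [sub_self] at h4
    rw [← h4]
    abel
  have ha : a = 0 := by
    have := congrArg (fun v => f v h) h3
    simpa [f_add_left, f_smul_left, f_zero_left, f_symm_zero (mem_next.1 hw).2.2, P.heh] using this
  exact ⟨by simpa [ha] using h3, ha⟩

/-- The torus of the pair. -/
theorem exists_torus {S : Set Vec} {e h : Vec} (P : Pair S e h) {c : F} (hc : c ≠ 0) :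
    ∃ t ∈ fixer S, t ∈ fixer (S ∪ (perp (next S e h) : Set Vec)) ∧ (t : Mat) *ᵥ e = c • e ∧
      (t : Mat) *ᵥ h = c⁻¹ • h ∧ ∀ v ∈ perp (next S e h), (t : Mat) *ᵥ v = v := by
  let S' : Set Vec := S ∪ (perp (next S e h) : Set Vec)
  have hmem : ∀ x : Vec, x ∈ perp S → (∀ v ∈ perp (next S e h), f v x = 0) → x ∈ perp S' := by
    rintro x hx hx' s (hs | hs)
    exacts [hx s hs, hx' s hs]
  have he : e ∈ perp S' := hmem e P.he fun v hv => f_symm_zero (mem_next.1 hv).2.1
  have hh : h ∈ perp S' := hmem h P.hh fun v hv => f_symm_zero (mem_next.1 hv).2.2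
  obtain ⟨t, ht, h1, h2⟩ := move (S := S') (e' := c • e) (h' := c⁻¹ • h) ⟨he, hh, P.heh⟩
    ⟨Submodule.smul_mem _ _ he, Submodule.smul_mem _ _ hh, by
      rw [f_smul_left, f_smul_right, P.heh, mul_one, mul_inv_cancel₀ hc]⟩
  exact ⟨t, fun x hx => ht x fun u hu => hx u fun s hs => hu s (Or.inl hs), ht, h1, h2,
    fun v hv => fixer_fix ht (Or.inr hv)⟩

theorem torus_un {S : Set Vec} {e h : Vec} {t : Sp} {c : F} (ht : (t : Mat) *ᵥ e = c • e)
    (htW : ∀ v ∈ perp (next S e h), (t : Mat) *ᵥ v = v) {w : Vec} (hw : w ∈ perp (next S e h)) (a : F) :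
    t * un e w a * t⁻¹ = un e (c • w) (c * c * a) := by
  have hwe := (mem_next.1 hw).2.1
  rw [un_conj, ht, htW w hw]
  refine sp_ext fun x => ?_
  rw [un_mulVec (by rw [f_smul_left, hwe, mul_zero]), un_mulVec (by rw [f_smul_right, hwe, mul_zero]),
    f_smul_right, f_smul_right]
  module

theorem torus_comm {S : Set Vec} {e h : Vec} (hS : Good S) (P : Pair S e h) {t : Sp}
    (htW : ∀ v ∈ perp (next S e h), (t : Mat) *ᵥ v = v) {l : Sp} (hl : l ∈ fixer (next S e h)) :
    t * l = l * t := by
  rw [fixer_eq (good_next hS P)] at hl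
  induction hl using Subgroup.closure_induction with
  | mem x hx =>
    obtain ⟨w, c, hw, hx⟩ := hx
    have e : x = tv w c := Subtype.ext hx
    have := tv_conj t w c
    rw [htW w hw, mul_inv_eq_iff_eq_mul] at this
    rw [e, this]
  | one => simp
  | mul x y _ _ hx hy => rw [← mul_assoc, hx, mul_assoc, hy, ← mul_assoc]
  | inv x _ hx => exact (Commute.inv_right hx).eq

end Cfsg.Agent.SimpleFacts.SpMult.Levels
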