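import Cfsg.Agent.SimpleFacts.SpMult.Coprime
import Mathlib

/-!
Biadditive maps on a level that kill orthogonal pairs, tori with their orders, dual vectors.
-/

set_option autoImplicit false
set_option linter.unusedSectionVars false
set_option linter.unusedSimpArgs false

namespace Cfsg.Agent.SimpleFacts.SpMult.Pairing

open Matrix
open Cfsg.Agent.Forms.SympStd Cfsg.Agent.Classical.Symplectic Cfsg.Agent.SimpleFacts.SpMult
open Levels

universe u

variable {F : Type u} [Field F] {m : ℕ}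

local notation "Vec" => (Fin m ⊕ Fin m → F)
local notation "Mat" => Matrix (Fin m ⊕ Fin m) (Fin m ⊕ Fin m) F
local notation "Sp" => symplecticGroup (Fin m) F
local notation "f" => Cfsg.sympForm m F

/-- A vector dual to the first of two independent vectors and orthogonal to the second. -/
theorem exists_dual {T : Set Vec} (hT : Good T) {w w' : Vec} (hw : w ∈ perp T) (hw' : w' ∈ perp T)
    (hne : w ≠ 0) (hf : f w w' = 0) (hind : ∀ a : F, w' ≠ a • w) :
    ∃ v, Pair T w v ∧ f w' v = 0 := by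
  obtain ⟨v, hv, hwv⟩ := hT w hw hne
  have P : Pair T w v := ⟨hw, hv, hwv⟩
  have hr : proj w v w' ≠ 0 := fun h0 => hind (f w' v) (by
    have := proj_add w v w'
    rwa [h0, zero_add, hf, zero_smul, add_zero] at this)
  obtain ⟨u, hu, hru⟩ := good_next hT P _ (proj_mem P hw') hr
  obtain ⟨hu1, hwu, hvu⟩ := mem_next.1 hu
  have hwu' : f w' u = 1 := by
    conv_lhs => rw [proj_add w v w', hf, zero_smul, add_zero]
    rw [f_add_left, f_smul_left, hwu, mul_zero, add_zero, hru]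
  refine ⟨v - f w' v • u, ⟨hw, sub_mem hv (Submodule.smul_mem _ _ hu1), ?_⟩, ?_⟩
  · rw [f_sub_right, f_smul_right, hwu, mul_zero, sub_zero, hwv]
  · rw [f_sub_right, f_smul_right, hwu', mul_one, sub_self]

/-- A biadditive map killing orthogonal pairs is a function of the form. -/
theorem eq_form {T : Set Vec} (hT : Good T) {w0 w1 : Vec} (P : Pair T w0 w1) {Z : Type*} [CommGroup Z]
    (C : Vec → Vec → Z)
    (hl : ∀ a ∈ perp T, ∀ b ∈ perp T, ∀ c ∈ perp T, C (a + b) c = C a c * C b c)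
    (hr : ∀ a ∈ perp T, ∀ b ∈ perp T, ∀ c ∈ perp T, C a (b + c) = C a b * C a c)
    (horth : ∀ a ∈ perp T, ∀ b ∈ perp T, f a b = 0 → C a b = 1)
    (htor : ∀ a b : F, C (a • w0) (b • w1) = C ((a * b) • w0) w1) :
    ∀ a ∈ perp T, ∀ b ∈ perp T, C a b = C (f a b • w0) w1 := by
  let Φ : F → Z := fun x => C (x • w0) w1
  have hm0 : ∀ x : F, x • w0 ∈ perp T := fun x => Submodule.smul_mem _ _ P.he
  have hm1 : ∀ x : F, x • w1 ∈ perp T := fun x => Submodule.smul_mem _ _ P.hh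
  have hΦ : ∀ x y, Φ (x + y) = Φ x * Φ y := fun x y => by
    simp only [Φ, add_smul]
    exact hl _ (hm0 x) _ (hm0 y) _ P.hh
  have hΦ0 : Φ 0 = 1 := by
    have := hΦ 0 0
    rwa [add_zero, left_eq_mul] at this
  have hΦn : ∀ x, Φ (-x) = (Φ x)⁻¹ := fun x => by
    rw [eq_inv_iff_mul_eq_one, ← hΦ, neg_add_cancel, hΦ0]
  have hanti : ∀ a ∈ perp T, ∀ b ∈ perp T, C b a = (C a b)⁻¹ := by
    intro a ha b hb
    have h := horth _ (add_mem ha hb) _ (add_mem ha hb) (sympForm_self _)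
    rw [hl a ha b hb _ (add_mem ha hb), hr a ha a ha b hb, hr b hb a ha b hb,
      horth a ha a ha (sympForm_self a), horth b hb b hb (sympForm_self b), one_mul, mul_one] at h
    exact eq_inv_of_mul_eq_one_right h
  have hnext : ∀ a ∈ perp (next T w0 w1), ∀ b ∈ perp (next T w0 w1), C a b = Φ (f a b) := by
    intro a ha b hb
    obtain ⟨ha1, ha0, ha2⟩ := mem_next.1 ha
    obtain ⟨hb1, hb0, hb2⟩ := mem_next.1 hb
    set μ := f a b with hμ
    have hx : μ • w0 + a ∈ perp T := add_mem (hm0 μ) ha1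
    have hy : w1 + (-1 : F) • b ∈ perp T := add_mem P.hh (Submodule.smul_mem _ _ hb1)
    have h1 := horth _ hx _ hy (by
      simp only [f_add_left, f_add_right, f_smul_left, f_smul_right, P.heh, hb0, f_symm_zero ha2]
      rw [← hμ]
      ring)
    rw [hl _ (hm0 μ) _ ha1 _ hy, hr _ (hm0 μ) _ P.hh _ (Submodule.smul_mem _ _ hb1),
      hr _ ha1 _ P.hh _ (Submodule.smul_mem _ _ hb1),
      horth _ (hm0 μ) _ (Submodule.smul_mem _ _ hb1) (by rw [f_smul_left, f_smul_right, hb0]; ring),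
      horth _ ha1 _ P.hh (f_symm_zero ha2), one_mul, mul_one] at h1
    have h3 : C a ((-1 : F) • b) = (C a b)⁻¹ := by
      refine eq_inv_of_mul_eq_one_right ?_
      rw [← hr _ ha1 _ hb1 _ (Submodule.smul_mem _ _ hb1)]
      refine horth _ ha1 _ (add_mem hb1 (Submodule.smul_mem _ _ hb1)) ?_
      rw [f_add_right, f_smul_right]; ring
    rw [h3, mul_inv_eq_one] at h1
    exact h1.symm
  intro a ha b hb
  obtain ⟨pa1, pa0, pa2⟩ := mem_next.1 (proj_mem P ha)
  obtain ⟨pb1, pb0, pb2⟩ := mem_next.1 (proj_mem P hb)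
  have hfab : f a b = f (proj w0 w1 a) (proj w0 w1 b) + f a w1 * f w0 b + -(f b w1 * f w0 a) := by
    conv_lhs => rw [proj_add w0 w1 a, proj_add w0 w1 b]
    simp only [f_add_left, f_add_right, f_smul_left, f_smul_right, sympForm_self, P.heh, P.hhe, pb0, pb2,
      f_symm_zero pa0, f_symm_zero pa2]
    ring
  show C a b = Φ (f a b)
  rw [hfab, hΦ, hΦ, hΦn]
  conv_lhs => rw [proj_add w0 w1 a, proj_add w0 w1 b]
  set ra := proj w0 w1 a with hra
  set rb := proj w0 w1 b with hrb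
  set A0 := f a w1 • w0 with hA0
  set A1 := f w0 a • w1 with hA1
  set B0 := f b w1 • w0 with hB0
  set B1 := f w0 b • w1 with hB1
  rw [hl _ (add_mem pa1 (hm0 _)) _ (hm1 _) _ (add_mem (add_mem pb1 (hm0 _)) (hm1 _)),
    hl _ pa1 _ (hm0 _) _ (add_mem (add_mem pb1 (hm0 _)) (hm1 _))]
  simp only [hr _ pa1 _ (add_mem pb1 (hm0 _)) _ (hm1 _), hr _ (hm0 (f a w1)) _ (add_mem pb1 (hm0 _)) _ (hm1 _),
    hr _ (hm1 (f w0 a)) _ (add_mem pb1 (hm0 _)) _ (hm1 _), hr _ pa1 _ pb1 _ (hm0 _),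
    hr _ (hm0 (f a w1)) _ pb1 _ (hm0 _), hr _ (hm1 (f w0 a)) _ pb1 _ (hm0 _), hA0, hA1, hB0, hB1]
  rw [hnext ra (proj_mem P ha) rb (proj_mem P hb),
    horth _ pa1 _ (hm0 _) (by rw [f_smul_right, f_symm_zero pa0]; ring),
    horth _ pa1 _ (hm1 _) (by rw [f_smul_right, f_symm_zero pa2]; ring),
    horth _ (hm0 _) _ pb1 (by rw [f_smul_left, pb0]; ring),
    horth _ (hm0 _) _ (hm0 _) (by rw [f_smul_left, f_smul_right, sympForm_self]; ring),
    horth _ (hm1 _) _ pb1 (by rw [f_smul_left, pb2]; ring),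
    horth _ (hm1 _) _ (hm1 _) (by rw [f_smul_left, f_smul_right, sympForm_self]; ring),
    hanti _ (hm0 (f b w1)) _ (hm1 (f w0 a)), htor, htor]
  simp only [Φ, one_mul, mul_one]

/-- Tori, with their orders. -/
theorem torus_order {T : Set Vec} {e h : Vec} (hT : Good T) (P : Pair T e h) {c : F} (hc : c ≠ 0) :
    ∃ t ∈ fixer T, (t : Mat) *ᵥ e = c • e ∧ (t : Mat) *ᵥ h = c⁻¹ • h ∧
      (∀ v ∈ perp (next T e h), (t : Mat) *ᵥ v = v) ∧ ∀ k : ℕ, c ^ k = 1 → t ^ k = 1 := by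
  obtain ⟨t, h1, h2, h3, h4, h5⟩ := exists_torus P hc
  refine ⟨t, h1, h3, h4, h5, fun k hk => ?_⟩
  have hpow : ∀ n : ℕ, ((t ^ n : Sp) : Mat) *ᵥ e = c ^ n • e ∧ ((t ^ n : Sp) : Mat) *ᵥ h = c⁻¹ ^ n • h := by
    intro n
    induction n with
    | zero =>
      constructor <;>
      · rw [pow_zero, pow_zero, one_smul]
        exact one_mulVec _
    | succ n ih =>
      constructor
      · rw [pow_succ', mul_mulVec_sp, ih.1, Matrix.mulVec_smul, h3, smul_smul, pow_succ]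
      · rw [pow_succ', mul_mulVec_sp, ih.2, Matrix.mulVec_smul, h4, smul_smul, pow_succ]
  refine Coprime.plane_next hT P (mem_next_fixer (Coprime.plane_pair P) (pow_mem h2 k) ?_ ?_)
  · rw [(hpow k).1, hk, one_smul]
  · rw [(hpow k).2, inv_pow, hk, inv_one, one_smul]

end Cfsg.Agent.SimpleFacts.SpMult.Pairing
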